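import Mathlib.GroupTheory.Complement
import Mathlib.GroupTheory.Index
import Mathlib.GroupTheory.Sylow
import Mathlib.GroupTheory.Solvable
import Mathlib.GroupTheory.Commutator.Basic
import Mathlib.Algebra.Group.Subgroup.Pointwise

/-!
Elementary facts about orders and coprimality of subgroups.
-/

set_option autoImplicit false

open Pointwise

namespace Cfsg.Agent.Lib.Coprime

variable {G : Type*} [Group G]

/-- Membership in `N ⊔ H` when `H` normalizes `N`. -/
theorem exists_mul_of_mem_sup {N H : Subgroup G} (hH : H ≤ Subgroup.normalizer (N : Set G))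
    {x : G} (hx : x ∈ N ⊔ H) : ∃ n ∈ N, ∃ h ∈ H, x = n * h := by
  rw [← SetLike.mem_coe, Subgroup.coe_mul_of_right_le_normalizer_left N H hH] at hx
  obtain ⟨n, hn, h, hh, rfl⟩ := hx
  exact ⟨n, hn, h, hh, rfl⟩

theorem inf_eq_bot_of_coprime_card {N H : Subgroup G}
    (h : (Nat.card N).Coprime (Nat.card H)) : N ⊓ H = ⊥ :=
  disjoint_iff.mp (Subgroup.disjoint_of_coprime_natCard h)

theorem eq_one_of_mem_of_mem {N H : Subgroup G} (h : (Nat.card N).Coprime (Nat.card H))
    {x : G} (hxN : x ∈ N) (hxH : x ∈ H) : x = 1 := by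
  have : x ∈ N ⊓ H := ⟨hxN, hxH⟩
  rwa [inf_eq_bot_of_coprime_card h, Subgroup.mem_bot] at this

/-- Order of a product of a subgroup and a subgroup normalizing it. -/
theorem card_sup_mul_card_inf {N H : Subgroup G} (hH : H ≤ Subgroup.normalizer (N : Set G)) :
    Nat.card (N ⊔ H : Subgroup G) * Nat.card (N ⊓ H : Subgroup G) =
      Nat.card N * Nat.card H := by
  have hn : (N.subgroupOf (N ⊔ H)).Normal :=
    Subgroup.normal_subgroupOf_of_le_normalizer (sup_le Subgroup.le_normalizer hH)
  have hle : H ⊔ N ≤ Subgroup.normalizer (N : Set G) := sup_le hH Subgroup.le_normalizer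
  have e1 : N.relIndex (N ⊔ H) = N.relIndex H := by
    have : (N.subgroupOf H).Normal := Subgroup.normal_subgroupOf_of_le_normalizer hH
    have : (N.subgroupOf (H ⊔ N)).Normal := Subgroup.normal_subgroupOf_of_le_normalizer hle
    have := QuotientGroup.quotientInfEquivProdNormalizerQuotient H N hH
    rw [sup_comm N H, Subgroup.relIndex, Subgroup.relIndex, Subgroup.index_eq_card,
      Subgroup.index_eq_card]
    exact (Nat.card_congr this.toEquiv).symm
  have e2 : Nat.card N * N.relIndex (N ⊔ H) = Nat.card (N ⊔ H : Subgroup G) := by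
    rw [← Subgroup.relIndex_bot_left, ← Subgroup.relIndex_bot_left]
    exact Subgroup.relIndex_mul_relIndex _ _ _ bot_le le_sup_left
  have e3 : Nat.card (N ⊓ H : Subgroup G) * N.relIndex H = Nat.card H := by
    rw [← Subgroup.inf_relIndex_right N H, ← Subgroup.relIndex_bot_left,
      ← Subgroup.relIndex_bot_left]
    exact Subgroup.relIndex_mul_relIndex _ _ _ bot_le inf_le_right
  rw [← e2, ← e3, e1]
  ring

theorem card_sup_of_coprime {N H : Subgroup G} (hH : H ≤ Subgroup.normalizer (N : Set G))
    (h : (Nat.card N).Coprime (Nat.card H)) :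
    Nat.card (N ⊔ H : Subgroup G) = Nat.card N * Nat.card H := by
  have := card_sup_mul_card_inf hH
  rwa [inf_eq_bot_of_coprime_card h, Subgroup.card_bot, mul_one] at this

theorem relIndex_mul_card {H K : Subgroup G} (h : H ≤ K) :
    Nat.card H * H.relIndex K = Nat.card K := by
  rw [← Subgroup.relIndex_bot_left, ← Subgroup.relIndex_bot_left]
  exact Subgroup.relIndex_mul_relIndex _ _ _ bot_le h

/-- Subgroups of equal order, one below the other, are equal. -/
theorem eq_of_le_of_card_le [Finite G] {H K : Subgroup G} (h : H ≤ K)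
    (hc : Nat.card K ≤ Nat.card H) : H = K :=
  Subgroup.eq_of_le_of_card_ge h hc

theorem card_conj_smul (g : G) (H : Subgroup G) :
    Nat.card (MulAut.conj g • H : Subgroup G) = Nat.card H :=
  Nat.card_congr (Subgroup.equivSMul _ H).toEquiv.symm

theorem mem_conj_smul {g x : G} {H : Subgroup G} :
    x ∈ MulAut.conj g • H ↔ g⁻¹ * x * g ∈ H := by
  rw [Subgroup.mem_pointwise_smul_iff_inv_smul_mem]
  simp [MulAut.smul_def]

theorem conj_mul_smul (g h : G) (H : Subgroup G) :
    MulAut.conj (g * h) • H = MulAut.conj g • MulAut.conj h • H := by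
  rw [map_mul, mul_smul]

theorem conj_one_smul (H : Subgroup G) : MulAut.conj (1 : G) • H = H := by
  rw [map_one, one_smul]

theorem conj_smul_eq_of_mem_normalizer {g : G} {H : Subgroup G}
    (hg : g ∈ Subgroup.normalizer (H : Set G)) : MulAut.conj g • H = H := by
  ext x
  rw [mem_conj_smul]
  exact (Subgroup.mem_normalizer_iff''.mp hg x).symm

theorem mem_normalizer_of_conj_smul_eq {g : G} {H : Subgroup G}
    (h : MulAut.conj g • H = H) : g ∈ Subgroup.normalizer (H : Set G) := by
  rw [Subgroup.mem_normalizer_iff'']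
  intro x
  conv_lhs => rw [← h, mem_conj_smul]

theorem isPGroup_conj_smul {p : ℕ} {g : G} {H : Subgroup G} (h : IsPGroup p H) :
    IsPGroup p (MulAut.conj g • H : Subgroup G) :=
  h.of_equiv (Subgroup.equivSMul _ H)

theorem le_normalizer_sup {X N M : Subgroup G} (hN : X ≤ Subgroup.normalizer (N : Set G))
    (hM : X ≤ Subgroup.normalizer (M : Set G)) :
    X ≤ Subgroup.normalizer ((N ⊔ M : Subgroup G) : Set G) := fun x hx =>
  mem_normalizer_of_conj_smul_eq (by
    rw [Subgroup.smul_sup, conj_smul_eq_of_mem_normalizer (hN hx),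
      conj_smul_eq_of_mem_normalizer (hM hx)])

theorem isSolvable_zpowers (a : G) : Group.IsSolvable (Subgroup.zpowers a) :=
  Group.isSolvable_of_comm fun x y => by
    obtain ⟨i, hi⟩ := x.2
    obtain ⟨j, hj⟩ := y.2
    apply Subtype.ext
    simp only [Subgroup.coe_mul, ← hi, ← hj, ← zpow_add, add_comm]

theorem isSolvable_of_le {H K : Subgroup G} (h : H ≤ K) (hK : Group.IsSolvable K) :
    Group.IsSolvable H :=
  Group.isSolvable_of_isSolvable_injective (Subgroup.inclusion_injective h)

theorem isSolvable_map {G' : Type*} [Group G'] (f : G →* G') {H : Subgroup G}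
    (h : Group.IsSolvable H) : Group.IsSolvable (H.map f) :=
  Group.isSolvable_of_surjective (f.subgroupMap_surjective H)

theorem isSolvable_subgroupOf {H K : Subgroup G} (h : Group.IsSolvable H) :
    Group.IsSolvable (H.subgroupOf K) := by
  refine Group.isSolvable_of_isSolvable_injective
    (f := (K.subtype.comp (H.subgroupOf K).subtype).codRestrict H (fun x => x.2)) ?_
  intro x y hxy
  exact Subtype.ext (Subtype.ext (congrArg Subtype.val hxy :))

theorem isSolvable_of_injective {G' : Type*} [Group G'] {f : G →* G'} (hf : Function.Injective f)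
    (h : Group.IsSolvable G') : Group.IsSolvable G :=
  Group.isSolvable_of_isSolvable_injective hf

theorem isSolvable_of_surjective' {G' : Type*} [Group G'] {f : G →* G'}
    (hf : Function.Surjective f) (h : Group.IsSolvable G) : Group.IsSolvable G' :=
  Group.isSolvable_of_surjective hf

end Cfsg.Agent.Lib.Coprime
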