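import Mathlib.GroupTheory.SchurZassenhaus
import Mathlib.GroupTheory.Nilpotent
import Cfsg.Agent.Lib.Coprime.Basic

/-!
Conjugacy part of the Schur–Zassenhaus theorem.

Main results:
* `exists_conj_eq_of_isComplement'`: complements of a normal Hall subgroup `N` are conjugate
  under `N` if `N` is solvable or a complement is solvable.
* `exists_conj_eq_of_le_sup`: relative version inside `N ⊔ H`.
* `exists_le_conj_of_le_sup`: a subgroup of order prime to `N` inside `N ⊔ H` lies in a
  conjugate of `H`.
-/

set_option autoImplicit false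

open Pointwise

namespace Cfsg.Agent.Lib.Coprime

universe u

section Abelian

variable {G : Type*} [Group G] [Finite G] (A : Subgroup G) [A.Normal] [IsMulCommutative A]

open MulOpposite MulAction in
theorem exists_conj_eq_of_isComplement'_abelian (hA : (Nat.card A).Coprime A.index)
    (H K : Subgroup G) (hH : Subgroup.IsComplement' A H) (hK : Subgroup.IsComplement' A K) :
    ∃ a ∈ A, MulAut.conj a • H = K := by
  have key : ∀ (L : Subgroup G) (hL : Subgroup.IsComplement' A L),
      ∃ α : A.QuotientDiff, stabilizer G α = L := by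
    intro L hL
    let t : A.LeftTransversal := ⟨(L : Set G), hL.symm⟩
    let α : A.QuotientDiff := Quotient.mk'' t
    refine ⟨α, ?_⟩
    have hle : L ≤ stabilizer G α := by
      intro g hg
      rw [mem_stabilizer_iff]
      have ht : op g⁻¹ • t = t := by
        apply Subtype.ext
        show op g⁻¹ • (L : Set G) = (L : Set G)
        exact rightCoset_mem_rightCoset L (inv_mem hg)
      show (Quotient.mk'' (op g⁻¹ • t) : A.QuotientDiff) = Quotient.mk'' t
      rw [ht]
    refine (eq_of_le_of_card_le hle ?_).symm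
    have h1 := (Subgroup.isComplement'_stabilizer_of_coprime (α := α)
      hA).card_mul_card
    have h2 := hL.card_mul_card
    exact le_of_eq (Nat.eq_of_mul_eq_mul_left Nat.card_pos (h1.trans h2.symm))
  obtain ⟨α, hα⟩ := key H hH
  obtain ⟨β, hβ⟩ := key K hK
  obtain ⟨a, ha⟩ := Subgroup.exists_smul_eq hA α β
  refine ⟨a, a.2, ?_⟩
  have : stabilizer G ((a : G) • α) = (stabilizer G α).map (MulAut.conj (a : G)).toMonoidHom :=
    MulAction.stabilizer_smul_eq_stabilizer_map_conj _ _
  rw [← hα, ← hβ, ← ha]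
  exact this.symm

end Abelian

/-- Conjugacy of complements when the normal Hall subgroup is solvable. -/
theorem exists_conj_eq_of_isComplement'_solvable {G : Type u} [Group G] [Finite G]
    (N : Subgroup G) [N.Normal] (hN : (Nat.card N).Coprime N.index)
    (hsolv : Group.IsSolvable N)
    (H K : Subgroup G) (hH : Subgroup.IsComplement' N H) (hK : Subgroup.IsComplement' N K) :
    ∃ n ∈ N, MulAut.conj n • H = K := by
  obtain ⟨k, hk⟩ : ∃ k, Nat.card N = k := ⟨_, rfl⟩
  induction k using Nat.strongRecOn generalizing G with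
  | ind k ih =>
  by_cases hN0 : N = ⊥
  · subst hN0
    refine ⟨1, one_mem _, ?_⟩
    rw [conj_one_smul, Subgroup.isComplement'_bot_left.mp hH,
      Subgroup.isComplement'_bot_left.mp hK]
  set M : Subgroup G := ⁅N, N⁆ with hMdef
  have hMn : M.Normal := Subgroup.commutator_normal N N
  have hMN : M ≤ N := Subgroup.commutator_le_self N
  by_cases hM0 : M = ⊥
  · have : IsMulCommutative N := ⟨⟨fun x y => by
      have h := Subgroup.commutator_eq_bot_iff_le_centralizer.mp hM0 x.2
      exact Subtype.ext (Subgroup.mem_centralizer_iff.mp h y y.2).symm⟩⟩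
    exact exists_conj_eq_of_isComplement'_abelian N hN H K hH hK
  have hMlt : M < N := by
    refine lt_of_le_of_ne hMN fun heq => ?_
    have : Nontrivial N := (Subgroup.nontrivial_iff_ne_bot N).mpr hN0
    apply ne_of_lt (Group.IsSolvable.commutator_lt_top_of_nontrivial (G := N) (hG := hsolv))
    apply Subgroup.map_injective N.subtype_injective
    rw [commutator_def, Subgroup.map_commutator, ← MonoidHom.range_eq_map, Subgroup.range_subtype]
    exact heq
  -- work in the quotient by `M`
  let π : G →* G ⧸ M := QuotientGroup.mk' M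
  have hπ : Function.Surjective π := QuotientGroup.mk'_surjective M
  have hker : π.ker ≤ N := by rw [QuotientGroup.ker_mk']; exact hMN
  have hidx : (N.map π).index = N.index := N.index_map_eq hπ hker
  have hcardN : Nat.card (N.map π) * Nat.card M = Nat.card N := by
    have h1 := (N.map π).card_mul_index
    have h2 := N.card_mul_index
    have h3 : Nat.card (G ⧸ M) * Nat.card M = Nat.card G := by
      rw [← Subgroup.index_eq_card]; exact M.index_mul_card
    rw [hidx] at h1
    apply Nat.eq_of_mul_eq_mul_right (Nat.pos_of_ne_zero (Subgroup.index_ne_zero_of_finite (H := N)))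
    calc Nat.card (N.map π) * Nat.card M * N.index
        = Nat.card (N.map π) * N.index * Nat.card M := by ring
      _ = Nat.card N * N.index := by rw [h1, h3, h2]
  have hcop' : (Nat.card (N.map π)).Coprime (N.map π).index := by
    rw [hidx]
    exact hN.coprime_dvd_left ⟨_, hcardN.symm⟩
  have hcompl : ∀ L : Subgroup G, Subgroup.IsComplement' N L →
      Subgroup.IsComplement' (N.map π) (L.map π) := by
    intro L hL
    refine Subgroup.isComplement'_of_coprime ?_ ?_
    · have hLc : Nat.card (L.map π) = Nat.card L := by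
        refine Nat.card_congr (Equiv.symm ?_)
        refine (MulEquiv.ofBijective (π.subgroupMap L) ⟨?_, π.subgroupMap_surjective L⟩).toEquiv
        rw [← MonoidHom.ker_eq_bot_iff, eq_bot_iff]
        intro x hx
        have hxM : (x : G) ∈ M := by
          rw [MonoidHom.mem_ker, Subtype.ext_iff] at hx
          simpa [π, QuotientGroup.eq_one_iff] using hx
        have : (x : G) ∈ N ⊓ L := ⟨hMN hxM, x.2⟩
        rw [disjoint_iff.mp hL.disjoint, Subgroup.mem_bot] at this
        exact Subgroup.mem_bot.mpr (Subtype.ext this)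
      rw [hLc, ← hL.symm.index_eq_card, ← hidx]
      exact Subgroup.card_mul_index _
    · have hdvd : Nat.card (L.map π) ∣ Nat.card L :=
        Subgroup.card_dvd_of_surjective (π.subgroupMap L) (π.subgroupMap_surjective L)
      have : (Nat.card (N.map π)).Coprime (Nat.card L) := by
        rw [← hL.symm.index_eq_card, ← hidx]; exact hcop'
      exact this.coprime_dvd_right hdvd
  have hlt : Nat.card (N.map π) < k := by
    rw [← hk, ← hcardN]
    exact lt_mul_of_one_lt_right Nat.card_pos (M.one_lt_card_iff_ne_bot.mpr hM0)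
  have : (N.map π).Normal := Subgroup.Normal.map inferInstance π hπ
  obtain ⟨n', hn', hconj⟩ := ih _ hlt (G := G ⧸ M) (N.map π) hcop' (isSolvable_map π hsolv)
    (H.map π) (K.map π) (hcompl H hH) (hcompl K hK) rfl
  obtain ⟨n, hn, rfl⟩ := hn'
  set H' := MulAut.conj n • H with hH'
  have hmap : H'.map π = K.map π := by
    rw [← hconj, hH']
    ext x
    simp only [Subgroup.mem_map, mem_conj_smul]
    constructor
    · rintro ⟨y, hy, rfl⟩
      exact ⟨_, hy, by simp [mul_assoc]⟩
    · rintro ⟨y, hy, hyx⟩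
      refine ⟨n * y * n⁻¹, by simpa [mul_assoc] using hy, ?_⟩
      rw [map_mul, map_mul, hyx, map_inv]
      simp [mul_assoc]
  have hH'le : H' ≤ M ⊔ K := by
    intro x hx
    have : π x ∈ K.map π := hmap ▸ Subgroup.mem_map_of_mem π hx
    obtain ⟨y, hy, hyx⟩ := this
    have : x * y⁻¹ ∈ M := by
      rw [← QuotientGroup.eq_one_iff]
      show π (x * y⁻¹) = 1
      rw [map_mul, map_inv, hyx, mul_inv_cancel]
    simpa using mul_mem (Subgroup.mem_sup_left this : x * y⁻¹ ∈ M ⊔ K) (Subgroup.mem_sup_right hy)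
  have hcK : Nat.card K = N.index := hK.symm.index_eq_card.symm
  have hcH' : Nat.card H' = N.index := by
    rw [hH', card_conj_smul]; exact hH.symm.index_eq_card.symm
  have hMK : (Nat.card M).Coprime (Nat.card K) := by
    rw [hcK]; exact hN.coprime_dvd_left (Subgroup.card_dvd_of_le hMN)
  set L := M ⊔ K with hL
  have hcL : Nat.card L = Nat.card M * Nat.card K := card_sup_of_coprime Subgroup.le_normalizer_of_normal hMK
  have hcM : Nat.card (M.subgroupOf L) = Nat.card M :=
    Nat.card_congr (Subgroup.subgroupOfEquivOfLe (le_sup_left : M ≤ L)).toEquiv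
  have hiM : (M.subgroupOf L).index = Nat.card K := by
    have := (M.subgroupOf L).card_mul_index
    rw [hcM, hcL] at this
    exact Nat.eq_of_mul_eq_mul_left Nat.card_pos this
  have : (M.subgroupOf L).Normal := Subgroup.normal_subgroupOf
  have hcomplL : ∀ X : Subgroup G, X ≤ L → Nat.card X = Nat.card K →
      Subgroup.IsComplement' (M.subgroupOf L) (X.subgroupOf L) := by
    intro X hX hc
    have hcX : Nat.card (X.subgroupOf L) = Nat.card X :=
      Nat.card_congr (Subgroup.subgroupOfEquivOfLe hX).toEquiv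
    refine Subgroup.isComplement'_of_coprime ?_ ?_
    · rw [hcM, hcX, hc, hcL]
    · rw [hcM, hcX, hc]; exact hMK
  have hlt' : Nat.card (M.subgroupOf L) < k := by
    rw [hcM, ← hk]
    exact lt_of_not_ge fun h => hMlt.ne (eq_of_le_of_card_le hMN h)
  obtain ⟨m, hm, hmc⟩ := ih _ hlt' (G := L) (M.subgroupOf L)
    (by rw [hcM, hiM]; exact hMK) (isSolvable_subgroupOf (isSolvable_of_le hMN hsolv))
    (H'.subgroupOf L) (K.subgroupOf L) (hcomplL H' hH'le (hcH'.trans hcK.symm))
    (hcomplL K le_sup_right rfl) rfl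
  refine ⟨(m : G) * n, mul_mem (hMN hm) hn, ?_⟩
  rw [conj_mul_smul, ← hH']
  refine eq_of_le_of_card_le ?_ (by rw [card_conj_smul, hcK, hcH'])
  intro x hx
  rw [mem_conj_smul] at hx
  have hxL : x ∈ L := by
    have := mul_mem (mul_mem m.2 (hH'le hx)) (inv_mem m.2)
    simpa [mul_assoc] using this
  have : (⟨x, hxL⟩ : L) ∈ MulAut.conj m • H'.subgroupOf L := by
    rw [mem_conj_smul, Subgroup.mem_subgroupOf]
    exact hx
  rw [hmc] at this
  exact this

section Relative

variable {G : Type u} [Group G] [Finite G]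

/-- Relative conjugacy, `N` solvable. -/
theorem exists_conj_eq_of_le_sup_solvable_left {N H K : Subgroup G}
    (hH : H ≤ Subgroup.normalizer (N : Set G))
    (hcop : (Nat.card N).Coprime (Nat.card H)) (hsolv : Group.IsSolvable N)
    (hcard : Nat.card K = Nat.card H) (hK : K ≤ N ⊔ H) :
    ∃ n ∈ N, MulAut.conj n • H = K := by
  set L := N ⊔ H with hL
  have hcL : Nat.card L = Nat.card N * Nat.card H := card_sup_of_coprime hH hcop
  have : (N.subgroupOf L).Normal :=
    Subgroup.normal_subgroupOf_of_le_normalizer (sup_le Subgroup.le_normalizer hH)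
  have hcN : Nat.card (N.subgroupOf L) = Nat.card N :=
    Nat.card_congr (Subgroup.subgroupOfEquivOfLe (le_sup_left : N ≤ L)).toEquiv
  have hiN : (N.subgroupOf L).index = Nat.card H := by
    have := (N.subgroupOf L).card_mul_index
    rw [hcN, hcL] at this
    exact Nat.eq_of_mul_eq_mul_left Nat.card_pos this
  have hcomplL : ∀ X : Subgroup G, X ≤ L → Nat.card X = Nat.card H →
      Subgroup.IsComplement' (N.subgroupOf L) (X.subgroupOf L) := by
    intro X hX hc
    have hcX : Nat.card (X.subgroupOf L) = Nat.card X :=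
      Nat.card_congr (Subgroup.subgroupOfEquivOfLe hX).toEquiv
    refine Subgroup.isComplement'_of_coprime ?_ ?_
    · rw [hcN, hcX, hc, hcL]
    · rw [hcN, hcX, hc]; exact hcop
  obtain ⟨n, hn, hnc⟩ := exists_conj_eq_of_isComplement'_solvable (N.subgroupOf L)
    (by rw [hcN, hiN]; exact hcop) (isSolvable_subgroupOf hsolv) (H.subgroupOf L) (K.subgroupOf L)
    (hcomplL H le_sup_right rfl) (hcomplL K hK hcard)
  refine ⟨(n : G), hn, eq_of_le_of_card_le ?_ (by rw [card_conj_smul, hcard])⟩
  intro x hx
  rw [mem_conj_smul] at hx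
  have hxL : x ∈ L := by
    have := mul_mem (mul_mem n.2 (Subgroup.mem_sup_right hx : (n : G)⁻¹ * x * n ∈ L)) (inv_mem n.2)
    simpa [mul_assoc] using this
  have : (⟨x, hxL⟩ : L) ∈ MulAut.conj n • H.subgroupOf L := by
    rw [mem_conj_smul, Subgroup.mem_subgroupOf]
    exact hx
  rw [hnc] at this
  exact this

/-- A nontrivial finite solvable group has a normal subgroup of prime index. -/
theorem exists_normal_prime_index {H : Type*} [Group H] [Finite H] [Group.IsSolvable H]
    [Nontrivial H] : ∃ M : Subgroup H, M.Normal ∧ M.index.Prime := by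
  have hlt := Group.IsSolvable.commutator_lt_top_of_nontrivial (G := H)
  obtain h | ⟨M, hM, hle⟩ := IsCoatomic.eq_top_or_exists_le_coatom (commutator H)
  · exact absurd h hlt.ne
  have hMn : M.Normal := Subgroup.Normal.of_commutator_le H hle
  refine ⟨M, hMn, ?_⟩
  obtain ⟨p, hp, hdvd⟩ := Nat.exists_prime_and_dvd (n := M.index)
    (fun h => hM.1 (Subgroup.index_eq_one.mp h))
  have := Fact.mk hp
  have hd : p ∣ Nat.card (H ⧸ M) := by rwa [← Subgroup.index_eq_card]
  obtain ⟨x, hx⟩ := exists_prime_orderOf_dvd_card' (G := H ⧸ M) p hd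
  let π : H →* H ⧸ M := QuotientGroup.mk' M
  have hπ : Function.Surjective π := QuotientGroup.mk'_surjective M
  have hne : M < (Subgroup.zpowers x).comap π := by
    refine lt_of_le_of_ne (fun y hy => ?_) ?_
    · show π y ∈ Subgroup.zpowers x
      rw [show π y = 1 from (QuotientGroup.eq_one_iff y).mpr hy]
      exact one_mem _
    · intro heq
      obtain ⟨y, rfl⟩ := hπ x
      have hy : y ∈ M := heq ▸ Subgroup.mem_zpowers (π y)
      rw [show π y = 1 from (QuotientGroup.eq_one_iff y).mpr hy, orderOf_one] at hx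
      exact hp.one_lt.ne hx
  have htop := hM.2 _ hne
  have hcard : Nat.card (H ⧸ M) = p := by
    rw [← hx, ← Nat.card_zpowers, ← Subgroup.card_top (G := H ⧸ M)]
    congr 2
    rw [← Subgroup.map_comap_eq_self_of_surjective hπ (Subgroup.zpowers x), htop]
    rw [Subgroup.map_top_of_surjective π hπ]
  rw [Subgroup.index_eq_card, hcard]
  exact hp

/-- Relative conjugacy, `H` solvable. -/
theorem exists_conj_eq_of_le_sup_solvable_right {N H K : Subgroup G}
    (hH : H ≤ Subgroup.normalizer (N : Set G))
    (hcop : (Nat.card N).Coprime (Nat.card H)) (hsolv : Group.IsSolvable H)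
    (hcard : Nat.card K = Nat.card H) (hK : K ≤ N ⊔ H) :
    ∃ n ∈ N, MulAut.conj n • H = K := by
  obtain ⟨k, hk⟩ : ∃ k, Nat.card H = k := ⟨_, rfl⟩
  induction k using Nat.strongRecOn generalizing H K with
  | ind k ih =>
  by_cases hH0 : H = ⊥
  · subst hH0
    refine ⟨1, one_mem _, ?_⟩
    rw [conj_one_smul]
    exact (Subgroup.card_eq_one.mp (hcard.trans Subgroup.card_bot)).symm
  have : Nontrivial H := (Subgroup.nontrivial_iff_ne_bot H).mpr hH0
  obtain ⟨M', hM'n, hq⟩ := exists_normal_prime_index (H := H)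
  set q := M'.index with hqdef
  have := Fact.mk hq
  set M := M'.map H.subtype with hMdef
  have hMH : M ≤ H := Subgroup.map_subtype_le M'
  have hMn : H ≤ Subgroup.normalizer (M : Set G) := by
    rw [Subgroup.le_normalizer_iff]
    rintro h hh _ ⟨x, hx, rfl⟩
    exact ⟨⟨h, hh⟩ * x * ⟨h, hh⟩⁻¹, hM'n.conj_mem x hx _, rfl⟩
  have hcM : Nat.card M * q = Nat.card H := by
    rw [hMdef, Nat.card_congr (M'.equivMapOfInjective H.subtype H.subtype_injective).toEquiv.symm]
    exact M'.card_mul_index
  -- the corresponding subgroup of `K`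
  have hNM : N ⊔ M ≤ N ⊔ H := sup_le_sup_left hMH N
  have hNMn : N ⊔ H ≤ Subgroup.normalizer ((N ⊔ M : Subgroup G) : Set G) := by
    refine sup_le (le_trans le_sup_left Subgroup.le_normalizer) ?_
    exact le_normalizer_sup hH hMn
  set M₁ := K ⊓ (N ⊔ M) with hM₁
  have hNMc : Nat.card (N ⊔ M : Subgroup G) = Nat.card N * Nat.card M :=
    card_sup_of_coprime (hMH.trans hH) (hcop.coprime_dvd_right (Subgroup.card_dvd_of_le hMH))
  have hNHc : Nat.card (N ⊔ H : Subgroup G) = Nat.card N * Nat.card H := card_sup_of_coprime hH hcop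
  have hcopK : (Nat.card N).Coprime (Nat.card K) := hcard ▸ hcop
  have hsupK : (N ⊔ M) ⊔ K = N ⊔ H := by
    refine eq_of_le_of_card_le (sup_le hNM hK) ?_
    have h1 : Nat.card (N ⊔ K : Subgroup G) = Nat.card (N ⊔ H : Subgroup G) := by
      rw [card_sup_of_coprime (le_trans hK (sup_le Subgroup.le_normalizer hH)) hcopK, hNHc, hcard]
    rw [← h1]
    exact Subgroup.card_le_of_le (sup_le_sup_right le_sup_left K)
  have hcM₁ : Nat.card M₁ = Nat.card M := by
    have := card_sup_mul_card_inf (N := N ⊔ M) (H := K) (le_trans hK hNMn)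
    rw [hsupK, hNHc, hNMc, inf_comm (N ⊔ M) K, ← hM₁, hcard] at this
    have h0 : Nat.card N * Nat.card H * Nat.card M₁ = Nat.card N * Nat.card H * Nat.card M := by
      rw [this]; ring
    exact Nat.eq_of_mul_eq_mul_left (Nat.mul_pos Nat.card_pos Nat.card_pos) h0
  have hlt : Nat.card M < k := by
    rw [← hk, ← hcM]
    exact lt_mul_of_one_lt_right Nat.card_pos hq.one_lt
  obtain ⟨n, hn, hnc⟩ := ih _ hlt (H := M) (K := M₁) (hMH.trans hH)
    (hcop.coprime_dvd_right (Subgroup.card_dvd_of_le hMH)) (isSolvable_of_le hMH hsolv) hcM₁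
    inf_le_right rfl
  -- replace `K` by a conjugate containing `M`
  set K' := MulAut.conj n⁻¹ • K with hK'
  have hK'le : K' ≤ N ⊔ H := by
    intro x hx
    rw [mem_conj_smul, inv_inv] at hx
    have hnL : n ∈ N ⊔ H := Subgroup.mem_sup_left hn
    simpa [mul_assoc] using mul_mem (mul_mem (inv_mem hnL) (hK hx)) hnL
  have hK'c : Nat.card K' = Nat.card H := by rw [hK', card_conj_smul, hcard]
  have hcopK' : (Nat.card N).Coprime (Nat.card K') := hK'c.symm ▸ hcop
  have hMK' : M ≤ K' := by
    intro x hx
    rw [hK', mem_conj_smul, inv_inv]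
    have h1 : n * x * n⁻¹ ∈ M₁ := by
      rw [← hnc, mem_conj_smul]
      simpa [mul_assoc] using hx
    exact h1.1
  have hK'M : K' ≤ Subgroup.normalizer (M : Set G) := by
    have h1 : K' ⊓ (N ⊔ M) = M := by
      refine (eq_of_le_of_card_le (le_inf hMK' le_sup_right) ?_).symm
      have hd1 : Nat.card (K' ⊓ (N ⊔ M) : Subgroup G) ∣ Nat.card N * Nat.card M :=
        hNMc ▸ Subgroup.card_dvd_of_le inf_le_right
      exact Nat.le_of_dvd Nat.card_pos
        ((hcopK'.symm.coprime_dvd_left (Subgroup.card_dvd_of_le inf_le_left)).dvd_of_dvd_mul_left hd1)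
    rw [← h1]
    exact le_trans (le_inf Subgroup.le_normalizer (hK'le.trans hNMn))
      Subgroup.inf_normalizer_le_normalizer_inf
  set L := Subgroup.normalizer (M : Set G) ⊓ (N ⊔ H) with hLdef
  have hHL : H ≤ L := le_inf hMn le_sup_right
  have hK'L : K' ≤ L := le_inf hK'M hK'le
  -- Sylow `q`-subgroups of `H` and `K'` are Sylow in `L`
  have hqN : ¬ q ∣ Nat.card N := by
    intro hd
    exact hq.not_dvd_one (hcop ▸ Nat.dvd_gcd hd ⟨_, by rw [← hcM, mul_comm]⟩)
  have sylowL : ∀ X : Subgroup G, X ≤ L → Nat.card X = Nat.card H → ∀ P : Sylow q X,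
      ∃ Q : Sylow q L, ((Q : Subgroup L).map L.subtype) = ((P : Subgroup X).map X.subtype) := by
    intro X hX hXc P
    have hdL : Nat.card L ∣ Nat.card N * Nat.card H := hNHc ▸ Subgroup.card_dvd_of_le inf_le_right
    have hL0 : Nat.card L ≠ 0 := Nat.card_pos.ne'
    have hle : (Nat.card L).factorization q ≤ (Nat.card X).factorization q := by
      calc (Nat.card L).factorization q ≤ (Nat.card N * Nat.card H).factorization q :=
            (Nat.factorization_le_iff_dvd hL0 (Nat.mul_ne_zero Nat.card_pos.ne' Nat.card_pos.ne')).mpr hdL q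
        _ = (Nat.card X).factorization q := by
            rw [Nat.factorization_mul Nat.card_pos.ne' Nat.card_pos.ne', Finsupp.add_apply,
              Nat.factorization_eq_zero_of_not_dvd hqN, hXc, zero_add]
    have hge : (Nat.card X).factorization q ≤ (Nat.card L).factorization q :=
      (Nat.factorization_le_iff_dvd Nat.card_pos.ne' hL0).mpr (Subgroup.card_dvd_of_le hX) q
    let P' : Subgroup G := (P : Subgroup X).map X.subtype
    have hP'L : P' ≤ L := (Subgroup.map_subtype_le _).trans hX
    have hP'c : Nat.card (P'.subgroupOf L) = q ^ (Nat.card L).factorization q := by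
      rw [Nat.card_congr (Subgroup.subgroupOfEquivOfLe hP'L).toEquiv,
        Nat.card_congr ((P : Subgroup X).equivMapOfInjective X.subtype X.subtype_injective).toEquiv.symm,
        P.card_eq_multiplicity, le_antisymm hle hge]
    refine ⟨Sylow.ofCard (P'.subgroupOf L) hP'c, ?_⟩
    rw [Sylow.coe_ofCard, Subgroup.map_subgroupOf_eq_of_le hP'L]
  obtain ⟨P⟩ : Nonempty (Sylow q H) := inferInstance
  obtain ⟨P'⟩ : Nonempty (Sylow q K') := inferInstance
  obtain ⟨Q, hQ⟩ := sylowL H hHL rfl P
  obtain ⟨Q', hQ'⟩ := sylowL K' hK'L hK'c P'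
  obtain ⟨l, hl⟩ := MulAction.exists_smul_eq L Q Q'
  obtain ⟨n₁, hn₁, h, hh, hlnh⟩ := exists_mul_of_mem_sup hH (l.2.2)
  have hn₁M : n₁ ∈ Subgroup.normalizer (M : Set G) := by
    have : n₁ = (l : G) * h⁻¹ := by rw [hlnh]; simp [mul_assoc]
    rw [this]
    exact mul_mem l.2.1 (inv_mem (hMn hh))
  -- both conjugate subgroups contain `M` and the same Sylow subgroup
  have hPH : M ⊔ (P : Subgroup H).map H.subtype = H := by
    refine eq_of_le_of_card_le (sup_le hMH (Subgroup.map_subtype_le _)) ?_
    set Y := M ⊔ (P : Subgroup H).map H.subtype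
    have hY : Y ≤ H := sup_le hMH (Subgroup.map_subtype_le _)
    obtain ⟨c, hc⟩ := Subgroup.card_dvd_of_le (le_sup_left : M ≤ Y)
    have hcq : c ∣ q := by
      have := Subgroup.card_dvd_of_le hY
      rw [hc, ← hcM] at this
      exact Nat.dvd_of_mul_dvd_mul_left Nat.card_pos this
    rcases (Nat.dvd_prime hq).mp hcq with rfl | rfl
    · exfalso
      rw [mul_one] at hc
      have hd : Nat.card ((P : Subgroup H).map H.subtype) ∣ Nat.card M :=
        hc ▸ Subgroup.card_dvd_of_le (le_sup_right : _ ≤ Y)
      rw [Nat.card_congr ((P : Subgroup H).equivMapOfInjective H.subtype H.subtype_injective).toEquiv.symm] at hd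
      have hfull : q ^ ((Nat.card M).factorization q + 1) ∣ Nat.card M := by
        refine dvd_trans ?_ hd
        rw [P.card_eq_multiplicity, ← hcM, Nat.factorization_mul Nat.card_pos.ne' hq.pos.ne',
          Finsupp.add_apply, hq.factorization_self]
      exact Nat.pow_succ_factorization_not_dvd Nat.card_pos.ne' hq hfull
    · rw [hc, hcM]
  refine ⟨n * n₁, mul_mem hn hn₁, ?_⟩
  have hfin : MulAut.conj n₁ • H ≤ K' := by
    have h1 : MulAut.conj (l : G) • H ≤ K' := by
      rw [← hPH, Subgroup.smul_sup]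
      refine sup_le ?_ ?_
      · rw [conj_smul_eq_of_mem_normalizer l.2.1]; exact hMK'
      · intro x hx
        rw [mem_conj_smul, ← hQ] at hx
        obtain ⟨y, hy, hyx⟩ := hx
        have h2 : l * y * l⁻¹ ∈ (Q' : Subgroup L) := by
          rw [← hl, Sylow.coe_subgroup_smul, mem_conj_smul]
          simpa [mul_assoc] using (show y ∈ (Q : Subgroup L) from hy)
        have h3 : ((l * y * l⁻¹ : L) : G) ∈ (P' : Subgroup K').map K'.subtype :=
          hQ' ▸ Subgroup.mem_map_of_mem L.subtype h2
        have h4 : ((l * y * l⁻¹ : L) : G) = x := by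
          have : (y : G) = (l : G)⁻¹ * x * l := hyx
          simp [this, mul_assoc]
        exact h4 ▸ Subgroup.map_subtype_le _ h3
    rwa [hlnh, conj_mul_smul, conj_smul_eq_of_mem_normalizer (Subgroup.le_normalizer hh)] at h1
  refine eq_of_le_of_card_le ?_ (by rw [card_conj_smul, hcard])
  rw [conj_mul_smul]
  intro x hx
  rw [mem_conj_smul] at hx
  have := hfin hx
  rw [hK', mem_conj_smul, inv_inv] at this
  simpa [mul_assoc] using this

/-- Relative Schur–Zassenhaus conjugacy. -/
theorem exists_conj_eq_of_le_sup {N H K : Subgroup G}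
    (hH : H ≤ Subgroup.normalizer (N : Set G))
    (hcop : (Nat.card N).Coprime (Nat.card H))
    (hsolv : Group.IsSolvable N ∨ Group.IsSolvable H)
    (hcard : Nat.card K = Nat.card H) (hK : K ≤ N ⊔ H) :
    ∃ n ∈ N, MulAut.conj n • H = K :=
  hsolv.elim (fun h => exists_conj_eq_of_le_sup_solvable_left hH hcop h hcard hK)
    (fun h => exists_conj_eq_of_le_sup_solvable_right hH hcop h hcard hK)

/-- A subgroup of order prime to `N` inside `N ⊔ H` lies in a conjugate of `H`. -/
theorem exists_le_conj_of_le_sup {N H K : Subgroup G}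
    (hH : H ≤ Subgroup.normalizer (N : Set G))
    (hcop : (Nat.card N).Coprime (Nat.card H))
    (hsolv : Group.IsSolvable N ∨ Group.IsSolvable H)
    (hcopK : (Nat.card N).Coprime (Nat.card K)) (hK : K ≤ N ⊔ H) :
    ∃ n ∈ N, K ≤ MulAut.conj n • H := by
  have hKn : K ≤ Subgroup.normalizer (N : Set G) := hK.trans (sup_le Subgroup.le_normalizer hH)
  set H₀ := H ⊓ (N ⊔ K) with hH₀
  have hsup : N ⊔ H₀ = N ⊔ K := by
    refine le_antisymm (sup_le le_sup_left inf_le_right) (fun x hx => ?_)
    obtain ⟨n, hn, h, hh, rfl⟩ := exists_mul_of_mem_sup hH (sup_le le_sup_left hK hx)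
    have hhK : h ∈ N ⊔ K := by
      simpa using mul_mem (Subgroup.mem_sup_left (inv_mem hn) : n⁻¹ ∈ N ⊔ K) hx
    exact mul_mem (Subgroup.mem_sup_left hn) (Subgroup.mem_sup_right ⟨hh, hhK⟩)
  have hH₀n : H₀ ≤ Subgroup.normalizer (N : Set G) := inf_le_left.trans hH
  have hcop₀ : (Nat.card N).Coprime (Nat.card H₀) :=
    hcop.coprime_dvd_right (Subgroup.card_dvd_of_le inf_le_left)
  have hcard : Nat.card K = Nat.card H₀ := by
    have h1 := card_sup_of_coprime hH₀n hcop₀
    rw [hsup, card_sup_of_coprime hKn hcopK] at h1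
    exact Nat.eq_of_mul_eq_mul_left Nat.card_pos h1
  obtain ⟨n, hn, hnc⟩ := exists_conj_eq_of_le_sup hH₀n hcop₀
    (hsolv.imp_right (isSolvable_of_le inf_le_left)) hcard (hsup ▸ le_sup_right)
  exact ⟨n, hn, hnc ▸ Subgroup.pointwise_smul_le_pointwise_smul_iff.mpr inf_le_left⟩

/-- Complements of a normal Hall subgroup are conjugate (`N` or `G ⧸ N` solvable). -/
theorem exists_conj_eq_of_isComplement' (N : Subgroup G) [N.Normal]
    (hN : (Nat.card N).Coprime N.index) (hsolv : Group.IsSolvable N ∨ Group.IsSolvable (G ⧸ N))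
    (H K : Subgroup G) (hH : Subgroup.IsComplement' N H) (hK : Subgroup.IsComplement' N K) :
    ∃ n ∈ N, MulAut.conj n • H = K := by
  refine exists_conj_eq_of_le_sup Subgroup.le_normalizer_of_normal ?_ (hsolv.imp_right fun h => ?_) ?_ ?_
  · rw [← hH.symm.index_eq_card]; exact hN
  · refine isSolvable_of_injective (f := (QuotientGroup.mk' N).comp H.subtype) ?_ h
    rw [← MonoidHom.ker_eq_bot_iff, eq_bot_iff]
    intro x hx
    have hxN : (x : G) ∈ N := by simpa [QuotientGroup.eq_one_iff] using hx
    have : (x : G) ∈ N ⊓ H := ⟨hxN, x.2⟩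
    rw [disjoint_iff.mp hH.disjoint, Subgroup.mem_bot] at this
    exact Subgroup.mem_bot.mpr (Subtype.ext this)
  · rw [← hH.symm.index_eq_card, ← hK.symm.index_eq_card]
  · rw [hH.sup_eq_top]; exact le_top

end Relative

end Cfsg.Agent.Lib.Coprime
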