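import Mathlib.GroupTheory.Frattini
import Cfsg.Agent.Lib.Coprime.SchurZassenhaus

/-!
Coprime action, internal setting: a subgroup `A` normalizing a subgroup `K`, of coprime order,
one of the two solvable.

Main results:
* `exists_mem_centralizer_of_fixed_coset`: fixed cosets contain fixed elements.
* `exists_fixed_smul`, `exists_centralizer_smul_eq`: Glauberman's lemma.
* `exists_invariant_sylow`, `exists_centralizer_conj_sylow`, `exists_invariant_sylow_ge`.
* `commutator_sup_centralizer_eq`: `K = [K, A] C_K(A)`.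
* `commutator_commutator_eq`: `[K, A, A] = [K, A]`.
* `le_centralizer_of_stabilizes`: stabilizing a normal series with trivial action.
* `le_centralizer_of_frattini`: trivial action on the Frattini quotient.
-/

set_option autoImplicit false

open Pointwise
open scoped commutatorElement

namespace Cfsg.Agent.Lib.Coprime

variable {G : Type*} [Group G] [Finite G]

omit [Finite G] in
/-- If `A` and a conjugate of it by `k` agree and `[k, A]` meets `A` trivially, `k` centralizes. -/
theorem mem_centralizer_of_conj {A N : Subgroup G} (hcop : (Nat.card A).Coprime (Nat.card N))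
    {k : G} (hA : MulAut.conj k • A = A) (hfix : ∀ a ∈ A, a * k * a⁻¹ * k⁻¹ ∈ N) :
    k ∈ Subgroup.centralizer (A : Set G) := by
  rw [Subgroup.mem_centralizer_iff]
  intro a ha
  have h1 : k * a⁻¹ * k⁻¹ ∈ A := by
    rw [← hA, mem_conj_smul]
    simpa [mul_assoc] using inv_mem ha
  have h2 : a * k * a⁻¹ * k⁻¹ ∈ A := by simpa [mul_assoc] using mul_mem ha h1
  have h3 := eq_one_of_mem_of_mem hcop h2 (hfix a ha)
  calc a * k = (a * k * a⁻¹ * k⁻¹) * (k * a) := by group
    _ = k * a := by rw [h3, one_mul]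

/-- A coset of `N` fixed by `A` contains an element centralized by `A`. -/
theorem exists_mem_centralizer_of_fixed_coset {A N : Subgroup G}
    (hAN : A ≤ Subgroup.normalizer (N : Set G)) (hcop : (Nat.card A).Coprime (Nat.card N))
    (hsolv : Group.IsSolvable A ∨ Group.IsSolvable N) {k : G}
    (hk : k ∈ Subgroup.normalizer (N : Set G)) (hfix : ∀ a ∈ A, a * k * a⁻¹ * k⁻¹ ∈ N) :
    ∃ n ∈ N, k * n ∈ Subgroup.centralizer (A : Set G) := by
  have hle : MulAut.conj k⁻¹ • A ≤ N ⊔ A := by
    intro x hx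
    rw [mem_conj_smul, inv_inv] at hx
    -- `k * x * k⁻¹ = a ∈ A`
    set a := k * x * k⁻¹ with ha
    have h1 : k⁻¹ * (a * k * a⁻¹ * k⁻¹) * k ∈ N :=
      (Subgroup.mem_normalizer_iff''.mp hk _).mp (hfix a hx)
    have h2 := mul_mem (Subgroup.mem_sup_left h1 : _ ∈ N ⊔ A) (Subgroup.mem_sup_right hx)
    have h3 : k⁻¹ * (a * k * a⁻¹ * k⁻¹) * k * a = x * (x⁻¹ * k⁻¹ * a * k) := by group
    rw [h3, ha] at h2
    simpa [mul_assoc] using h2
  obtain ⟨n, hn, hnc⟩ := exists_conj_eq_of_le_sup hAN hcop.symm hsolv.symm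
    (card_conj_smul _ _) hle
  have hA : MulAut.conj (k * n) • A = A := by
    rw [conj_mul_smul, hnc, ← conj_mul_smul, mul_inv_cancel, conj_one_smul]
  refine ⟨n, hn, mem_centralizer_of_conj hcop hA fun a ha => ?_⟩
  have h1 : a * k * a⁻¹ * k⁻¹ ∈ N := hfix a ha
  have h2 : k * ((a * n * a⁻¹) * n⁻¹) * k⁻¹ ∈ N :=
    (Subgroup.mem_normalizer_iff.mp hk _).mp
      (mul_mem ((Subgroup.mem_normalizer_iff.mp (hAN ha) _).mp hn) (inv_mem hn))
  simpa [mul_assoc] using mul_mem h1 h2

/-- Glauberman's lemma, existence: if `A` stabilizes the `K`-orbit of `x`, it fixes a point of it. -/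
theorem exists_fixed_smul {X : Type*} [MulAction G X] {A K : Subgroup G}
    (hAK : A ≤ Subgroup.normalizer (K : Set G)) (hcop : (Nat.card A).Coprime (Nat.card K))
    (hsolv : Group.IsSolvable A ∨ Group.IsSolvable K) (x : X)
    (h : ∀ a ∈ A, ∃ k ∈ K, a • x = k • x) :
    ∃ k ∈ K, ∀ a ∈ A, a • (k • x) = k • x := by
  set S := MulAction.stabilizer G x ⊓ (K ⊔ A) with hS
  set N := K ⊓ S with hN
  have hSK : S ≤ Subgroup.normalizer (K : Set G) :=
    inf_le_right.trans (sup_le Subgroup.le_normalizer hAK)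
  have hSN : S ≤ Subgroup.normalizer (N : Set G) :=
    le_trans (le_inf hSK Subgroup.le_normalizer) Subgroup.inf_normalizer_le_normalizer_inf
  -- `S` supplements `K`
  have hKS : K ⊔ S = K ⊔ A := by
    refine le_antisymm (sup_le le_sup_left inf_le_right) (sup_le le_sup_left fun a ha => ?_)
    obtain ⟨k, hk, hka⟩ := h a ha
    have h1 : k⁻¹ * a ∈ S := by
      refine ⟨?_, mul_mem (Subgroup.mem_sup_left (inv_mem hk)) (Subgroup.mem_sup_right ha)⟩
      show (k⁻¹ * a) • x = x
      rw [mul_smul, hka, inv_smul_smul]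
    simpa using mul_mem (Subgroup.mem_sup_left hk : k ∈ K ⊔ S) (Subgroup.mem_sup_right h1)
  have hc : Nat.card S = Nat.card N * Nat.card A := by
    have h1 := card_sup_mul_card_inf (N := K) (H := S) hSK
    rw [hKS, card_sup_of_coprime hAK hcop.symm, ← hN] at h1
    apply Nat.eq_of_mul_eq_mul_left (Nat.card_pos (α := K))
    rw [← h1]; ring
  have hNn : (N.subgroupOf S).Normal := Subgroup.normal_subgroupOf_of_le_normalizer hSN
  have hcN : Nat.card (N.subgroupOf S) = Nat.card N :=
    Nat.card_congr (Subgroup.subgroupOfEquivOfLe (inf_le_right : N ≤ S)).toEquiv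
  have hcopN : (Nat.card A).Coprime (Nat.card N) :=
    hcop.coprime_dvd_right (Subgroup.card_dvd_of_le inf_le_left)
  have hiN : (N.subgroupOf S).index = Nat.card A := by
    have := (N.subgroupOf S).card_mul_index
    rw [hcN, hc] at this
    exact Nat.eq_of_mul_eq_mul_left Nat.card_pos this
  obtain ⟨A₁', hA₁'⟩ := Subgroup.exists_right_complement'_of_coprime (N := N.subgroupOf S)
    (by rw [hcN, hiN]; exact hcopN.symm)
  set A₁ := A₁'.map S.subtype with hA₁
  have hcA₁ : Nat.card A₁ = Nat.card A := by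
    rw [hA₁, Nat.card_congr (A₁'.equivMapOfInjective S.subtype S.subtype_injective).toEquiv.symm,
      ← hA₁'.symm.index_eq_card, hiN]
  obtain ⟨k, hk, hkc⟩ := exists_conj_eq_of_le_sup hAK hcop.symm hsolv.symm hcA₁
    ((Subgroup.map_subtype_le _).trans inf_le_right)
  refine ⟨k⁻¹, inv_mem hk, fun a ha => ?_⟩
  have h1 : k * a * k⁻¹ ∈ S := by
    refine Subgroup.map_subtype_le A₁' ?_
    show k * a * k⁻¹ ∈ A₁
    rw [← hkc, mem_conj_smul]
    simpa [mul_assoc] using ha
  have h2 : (k * a * k⁻¹) • x = x := h1.1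
  calc a • k⁻¹ • x = k⁻¹ • ((k * a * k⁻¹) • x) := by simp [smul_smul, mul_assoc]
    _ = k⁻¹ • x := by rw [h2]

/-- Glauberman's lemma, transitivity of the centralizer on fixed points. -/
theorem exists_centralizer_smul_eq {X : Type*} [MulAction G X] {A K : Subgroup G}
    (hAK : A ≤ Subgroup.normalizer (K : Set G)) (hcop : (Nat.card A).Coprime (Nat.card K))
    (hsolv : Group.IsSolvable A ∨ Group.IsSolvable K) (x y : X)
    (hx : ∀ a ∈ A, a • x = x) (hy : ∀ a ∈ A, a • y = y) (h : ∃ k ∈ K, k • x = y) :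
    ∃ c ∈ K, c ∈ Subgroup.centralizer (A : Set G) ∧ c • x = y := by
  obtain ⟨k, hk, rfl⟩ := h
  set N := MulAction.stabilizer G x ⊓ K with hN
  have hAx : A ≤ MulAction.stabilizer G x := hx
  have hAN : A ≤ Subgroup.normalizer (N : Set G) :=
    le_trans (le_inf (hAx.trans Subgroup.le_normalizer) hAK)
      Subgroup.inf_normalizer_le_normalizer_inf
  have hcopN : (Nat.card A).Coprime (Nat.card N) :=
    hcop.coprime_dvd_right (Subgroup.card_dvd_of_le inf_le_right)
  have hle : MulAut.conj k⁻¹ • A ≤ N ⊔ A := by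
    intro b hb
    rw [mem_conj_smul, inv_inv] at hb
    have hbx : b • x = x := by
      have h1 := hy _ hb
      rw [← mul_smul] at h1
      apply smul_left_cancel k
      rw [← h1, ← mul_smul]
      simp [mul_assoc]
    have hbKA : b ∈ K ⊔ A := by
      have := mul_mem (mul_mem (Subgroup.mem_sup_left (inv_mem hk) : k⁻¹ ∈ K ⊔ A)
        (Subgroup.mem_sup_right hb)) (Subgroup.mem_sup_left hk)
      simpa [mul_assoc] using this
    obtain ⟨n, hn, a, ha, rfl⟩ := exists_mul_of_mem_sup hAK hbKA
    refine mul_mem (Subgroup.mem_sup_left ⟨?_, hn⟩) (Subgroup.mem_sup_right ha)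
    show n • x = x
    rw [mul_smul, hx a ha] at hbx
    exact hbx
  obtain ⟨n, hn, hnc⟩ := exists_conj_eq_of_le_sup hAN hcopN.symm
    (hsolv.symm.imp_left (isSolvable_of_le inf_le_right)) (card_conj_smul _ _) hle
  have hA : MulAut.conj (k * n) • A = A := by
    rw [conj_mul_smul, hnc, ← conj_mul_smul, mul_inv_cancel, conj_one_smul]
  refine ⟨k * n, mul_mem hk hn.2, mem_centralizer_of_conj hcop hA (fun a ha => ?_), ?_⟩
  · have h1 : k * n ∈ K := mul_mem hk hn.2
    exact mul_mem ((Subgroup.mem_normalizer_iff.mp (hAK ha) _).mp h1) (inv_mem h1)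
  · rw [mul_smul, show n • x = x from hn.1]

/-- The `G`-conjugation action on subgroups, used locally. -/
@[reducible] def conjActionSubgroup (H : Type*) [Group H] : MulAction H (Subgroup H) :=
  MulAction.compHom _ (MulAut.conj : H →* MulAut H)

omit [Finite G] in
theorem sylow_map_conj_smul {p : ℕ} {K : Subgroup G} (c : K) (P : Sylow p K) :
    ((MulAut.conj c • P : Sylow p K) : Subgroup K).map K.subtype =
      MulAut.conj (c : G) • (P : Subgroup K).map K.subtype := by
  ext x
  rw [mem_conj_smul]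
  constructor
  · rintro ⟨y, hy, rfl⟩
    rw [Sylow.pointwise_smul_def, SetLike.mem_coe, mem_conj_smul] at hy
    exact ⟨_, hy, rfl⟩
  · rintro ⟨y, hy, hyx⟩
    refine ⟨c * y * c⁻¹, ?_, ?_⟩
    · rw [Sylow.pointwise_smul_def, SetLike.mem_coe, mem_conj_smul]
      simpa [mul_assoc] using (show y ∈ (P : Subgroup K) from hy)
    · have h1 : (y : G) = (c : G)⁻¹ * x * c := hyx
      simp [h1, mul_assoc]

/-- There is an `A`-invariant Sylow `p`-subgroup of `K`. -/
theorem exists_invariant_sylow {A K : Subgroup G}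
    (hAK : A ≤ Subgroup.normalizer (K : Set G)) (hcop : (Nat.card A).Coprime (Nat.card K))
    (hsolv : Group.IsSolvable A ∨ Group.IsSolvable K) (p : ℕ) [Fact p.Prime] :
    ∃ P : Sylow p K, A ≤ Subgroup.normalizer ((P : Subgroup K).map K.subtype : Set G) := by
  obtain ⟨P⟩ : Nonempty (Sylow p K) := inferInstance
  let act : MulAction G (Subgroup G) := conjActionSubgroup G
  have h : ∀ a ∈ A, ∃ k ∈ K, a • (P : Subgroup K).map K.subtype =
      k • (P : Subgroup K).map K.subtype := by
    intro a ha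
    set P' := MulAut.conj a • (P : Subgroup K).map K.subtype with hP'
    have hP'K : P' ≤ K := by
      intro x hx
      rw [hP', mem_conj_smul] at hx
      exact (Subgroup.mem_normalizer_iff''.mp (hAK ha) x).mpr (Subgroup.map_subtype_le _ hx)
    have hcard : Nat.card (P'.subgroupOf K) = p ^ (Nat.card K).factorization p := by
      rw [Nat.card_congr (Subgroup.subgroupOfEquivOfLe hP'K).toEquiv, hP', card_conj_smul,
        Nat.card_congr ((P : Subgroup K).equivMapOfInjective K.subtype K.subtype_injective).toEquiv.symm,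
        P.card_eq_multiplicity]
    obtain ⟨k, hk⟩ := MulAction.exists_smul_eq K P (Sylow.ofCard _ hcard)
    refine ⟨k, k.2, ?_⟩
    have h1 := congrArg (fun S : Sylow p K => (S : Subgroup K).map K.subtype) hk
    simp only [Sylow.coe_ofCard, Subgroup.map_subgroupOf_eq_of_le hP'K] at h1
    show P' = MulAut.conj (k : G) • (P : Subgroup K).map K.subtype
    rw [← h1, ← sylow_map_conj_smul]
    rfl
  obtain ⟨k, hk, hfix⟩ := exists_fixed_smul hAK hcop hsolv ((P : Subgroup K).map K.subtype) h
  refine ⟨MulAut.conj (⟨k, hk⟩ : K) • P, fun a ha => mem_normalizer_of_conj_smul_eq ?_⟩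
  rw [sylow_map_conj_smul]
  exact hfix a ha

/-- `A`-invariant Sylow subgroups are conjugate under `C_K(A)`. -/
theorem exists_centralizer_conj_sylow {A K : Subgroup G}
    (hAK : A ≤ Subgroup.normalizer (K : Set G)) (hcop : (Nat.card A).Coprime (Nat.card K))
    (hsolv : Group.IsSolvable A ∨ Group.IsSolvable K) {p : ℕ} [Fact p.Prime] (P Q : Sylow p K)
    (hP : A ≤ Subgroup.normalizer ((P : Subgroup K).map K.subtype : Set G))
    (hQ : A ≤ Subgroup.normalizer ((Q : Subgroup K).map K.subtype : Set G)) :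
    ∃ c : K, (c : G) ∈ Subgroup.centralizer (A : Set G) ∧ MulAut.conj c • P = Q := by
  let act : MulAction G (Subgroup G) := conjActionSubgroup G
  obtain ⟨k, hk⟩ := MulAction.exists_smul_eq K P Q
  obtain ⟨c, hcK, hc, hcPQ⟩ := exists_centralizer_smul_eq hAK hcop hsolv
    ((P : Subgroup K).map K.subtype) ((Q : Subgroup K).map K.subtype)
    (fun a ha => conj_smul_eq_of_mem_normalizer (hP ha))
    (fun a ha => conj_smul_eq_of_mem_normalizer (hQ ha))
    ⟨k, k.2, by rw [← hk]; exact (sylow_map_conj_smul k P).symm⟩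
  refine ⟨⟨c, hcK⟩, hc, Sylow.ext (Subgroup.map_injective K.subtype_injective ?_)⟩
  rw [sylow_map_conj_smul]
  exact hcPQ

/-- An `A`-invariant `p`-subgroup of `K` lies in an `A`-invariant Sylow `p`-subgroup. -/
theorem exists_invariant_sylow_ge {A K : Subgroup G}
    (hAK : A ≤ Subgroup.normalizer (K : Set G)) (hcop : (Nat.card A).Coprime (Nat.card K))
    (hsolv : Group.IsSolvable A ∨ Group.IsSolvable K) (p : ℕ) [Fact p.Prime] (U : Subgroup G)
    (hUK : U ≤ K) (hU : IsPGroup p U) (hUA : A ≤ Subgroup.normalizer (U : Set G)) :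
    ∃ P : Sylow p K, U ≤ (P : Subgroup K).map K.subtype ∧
      A ≤ Subgroup.normalizer ((P : Subgroup K).map K.subtype : Set G) := by
  obtain ⟨d, hd⟩ : ∃ d, Nat.card K - Nat.card U = d := ⟨_, rfl⟩
  induction d using Nat.strongRecOn generalizing U with
  | ind d ih =>
  obtain ⟨P, hP⟩ := (hU.comap_of_injective K.subtype K.subtype_injective).exists_le_sylow
  have hUP : U ≤ (P : Subgroup K).map K.subtype := by
    intro x hx
    exact ⟨⟨x, hUK hx⟩, hP hx, rfl⟩
  by_cases hUeq : U = (P : Subgroup K).map K.subtype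
  · exact ⟨P, hUP, hUeq ▸ hUA⟩
  set N := Subgroup.normalizer (U : Set G) ⊓ K with hN
  have hAN : A ≤ Subgroup.normalizer (N : Set G) :=
    le_trans (le_inf (hUA.trans Subgroup.le_normalizer) hAK)
      Subgroup.inf_normalizer_le_normalizer_inf
  obtain ⟨Q, hQ⟩ := exists_invariant_sylow hAN
    (hcop.coprime_dvd_right (Subgroup.card_dvd_of_le inf_le_right))
    (hsolv.imp_right (isSolvable_of_le inf_le_right)) p
  set Q' := (Q : Subgroup N).map N.subtype with hQ'
  have hUN : U ≤ N := le_inf Subgroup.le_normalizer hUK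
  have hUQ : U ≤ Q' := by
    have hn : (U.subgroupOf N).Normal := Subgroup.normal_subgroupOf_of_le_normalizer inf_le_left
    have hp : IsPGroup p (U.subgroupOf N) :=
      hU.comap_of_injective N.subtype N.subtype_injective
    obtain ⟨R, hR⟩ := hp.exists_le_sylow
    obtain ⟨g, hg⟩ := MulAction.exists_smul_eq N R Q
    intro x hx
    refine ⟨⟨x, hUN hx⟩, ?_, rfl⟩
    show _ ∈ (Q : Subgroup N)
    rw [← hg, Sylow.coe_subgroup_smul, mem_conj_smul]
    have hx' : (⟨x, hUN hx⟩ : N) ∈ U.subgroupOf N := hx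
    have h1 := hn.conj_mem _ hx' g⁻¹
    rw [inv_inv] at h1
    exact hR h1
  -- `U` is proper in its normalizer in `P`
  have hlt : Nat.card U < Nat.card Q' := by
    set P' := (P : Subgroup K).map K.subtype with hP'
    have hPp : IsPGroup p P' := P.2.map _
    have : Group.IsNilpotent P' := hPp.isNilpotent
    have hne : U.subgroupOf P' ≠ ⊤ := fun h =>
      hUeq (le_antisymm hUP (Subgroup.subgroupOf_eq_top.mp h))
    have hlt := Group.normalizerCondition_of_isNilpotent (U.subgroupOf P') (lt_top_iff_ne_top.mpr hne)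
    obtain ⟨y, hy, hyU⟩ := SetLike.exists_of_lt hlt
    -- the subgroup generated by `U` and `y`
    set W := (Subgroup.normalizer ((U.subgroupOf P' : Subgroup P') : Set P')).map P'.subtype with hW
    have hWP : W ≤ P' := Subgroup.map_subtype_le _
    have hWU : W ≤ Subgroup.normalizer (U : Set G) := by
      rw [Subgroup.le_normalizer_iff]
      rintro _ ⟨w, hw, rfl⟩ u hu
      have hu' : (⟨u, hUP hu⟩ : P') ∈ U.subgroupOf P' := hu
      exact (Subgroup.mem_normalizer_iff.mp hw _).mp hu'
    have hWN : W ≤ N := le_inf hWU (hWP.trans (Subgroup.map_subtype_le _))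
    have h1 : Nat.card U < Nat.card W := by
      refine lt_of_not_ge fun h => ?_
      have hUW : U ≤ W := by
        intro u hu
        exact ⟨⟨u, hUP hu⟩, Subgroup.le_normalizer (show (⟨u, hUP hu⟩ : P') ∈ U.subgroupOf P' from hu), rfl⟩
      have := eq_of_le_of_card_le hUW h
      exact hyU (show (y : G) ∈ U from this ▸ Subgroup.mem_map_of_mem P'.subtype hy)
    obtain ⟨R, hR⟩ := ((hPp.to_le hWP).comap_of_injective N.subtype N.subtype_injective).exists_le_sylow
    refine lt_of_lt_of_le h1 ?_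
    calc Nat.card W = Nat.card (W.subgroupOf N) :=
          (Nat.card_congr (Subgroup.subgroupOfEquivOfLe hWN).toEquiv).symm
      _ ≤ Nat.card R := Subgroup.card_le_of_le hR
      _ = Nat.card Q := by rw [R.card_eq_multiplicity, Q.card_eq_multiplicity]
      _ = Nat.card Q' :=
          Nat.card_congr ((Q : Subgroup N).equivMapOfInjective N.subtype N.subtype_injective).toEquiv
  have hQK : Q' ≤ K := (Subgroup.map_subtype_le _).trans inf_le_right
  obtain ⟨R, hR1, hR2⟩ := ih (Nat.card K - Nat.card Q')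
    (by have := Subgroup.card_le_of_le hQK; omega) Q' hQK (Q.2.map _) hQ rfl
  exact ⟨R, hUQ.trans hR1, hR2⟩

omit [Finite G] in
theorem commutator_le_of_le_normalizer {A K : Subgroup G}
    (hAK : A ≤ Subgroup.normalizer (K : Set G)) : ⁅K, A⁆ ≤ K :=
  Subgroup.le_normalizer_iff_commutator_le_left.mp hAK

/-- `K = [K, A] C_K(A)`. -/
theorem commutator_sup_centralizer_eq {A K : Subgroup G}
    (hAK : A ≤ Subgroup.normalizer (K : Set G)) (hcop : (Nat.card A).Coprime (Nat.card K))
    (hsolv : Group.IsSolvable A ∨ Group.IsSolvable K) :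
    ⁅K, A⁆ ⊔ (K ⊓ Subgroup.centralizer (A : Set G)) = K := by
  have hle := commutator_le_of_le_normalizer hAK
  refine le_antisymm (sup_le hle inf_le_left) fun k hk => ?_
  obtain ⟨n, hn, hc⟩ := exists_mem_centralizer_of_fixed_coset (A := A) (N := ⁅K, A⁆)
    (Subgroup.normalizer_commutator_ge_right K A)
    (hcop.coprime_dvd_right (Subgroup.card_dvd_of_le hle))
    (hsolv.imp_right (isSolvable_of_le hle))
    (Subgroup.normalizer_commutator_ge_left K A hk)
    (fun a ha => by
      have h1 := inv_mem (Subgroup.commutator_mem_commutator hk ha)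
      simpa [commutatorElement_def, mul_assoc] using h1)
  have h2 : k * n ∈ ⁅K, A⁆ ⊔ (K ⊓ Subgroup.centralizer (A : Set G)) :=
    Subgroup.mem_sup_right ⟨mul_mem hk (hle hn), hc⟩
  simpa [mul_assoc] using mul_mem h2 (Subgroup.mem_sup_left (inv_mem hn))

/-- `[K, A, A] = [K, A]`. -/
theorem commutator_commutator_eq {A K : Subgroup G}
    (hAK : A ≤ Subgroup.normalizer (K : Set G)) (hcop : (Nat.card A).Coprime (Nat.card K))
    (hsolv : Group.IsSolvable A ∨ Group.IsSolvable K) :
    ⁅⁅K, A⁆, A⁆ = ⁅K, A⁆ := by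
  have hle := commutator_le_of_le_normalizer hAK
  refine le_antisymm (Subgroup.commutator_mono hle le_rfl) (Subgroup.commutator_le.mpr ?_)
  intro k hk a ha
  rw [← commutator_sup_centralizer_eq hAK hcop hsolv] at hk
  have hn : K ⊓ Subgroup.centralizer (A : Set G) ≤ Subgroup.normalizer ((⁅K, A⁆ : Subgroup G) : Set G) :=
    inf_le_left.trans (Subgroup.normalizer_commutator_ge_left K A)
  obtain ⟨x, hx, c, hc, rfl⟩ := exists_mul_of_mem_sup hn hk
  have hca : a * c = c * a := Subgroup.mem_centralizer_iff.mp hc.2 a ha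
  have h1 : ⁅x * c, a⁆ = ⁅x, a⁆ := by
    simp only [commutatorElement_def]
    calc x * c * a * (x * c)⁻¹ * a⁻¹ = x * (c * a) * c⁻¹ * x⁻¹ * a⁻¹ := by group
      _ = x * a * x⁻¹ * a⁻¹ := by rw [← hca]; group
  rw [h1]
  exact Subgroup.commutator_mem_commutator hx ha

/-- If `A` acts trivially on `K / N` and on `N`, it acts trivially on `K`. -/
theorem le_centralizer_of_stabilizes {A K N : Subgroup G}
    (hAN : A ≤ Subgroup.normalizer (N : Set G)) (hKN : K ≤ Subgroup.normalizer (N : Set G))
    (hcop : (Nat.card A).Coprime (Nat.card N))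
    (htriv : ∀ a ∈ A, ∀ k ∈ K, a * k * a⁻¹ * k⁻¹ ∈ N)
    (hN : A ≤ Subgroup.centralizer (N : Set G)) :
    A ≤ Subgroup.centralizer (K : Set G) := by
  intro a ha
  have hZle : Subgroup.zpowers a ≤ A := Subgroup.zpowers_le.mpr ha
  rw [Subgroup.mem_centralizer_iff]
  intro k hk
  obtain ⟨n, hn, hc⟩ := exists_mem_centralizer_of_fixed_coset (hZle.trans hAN)
    (hcop.coprime_dvd_left (Subgroup.card_dvd_of_le hZle)) (Or.inl (isSolvable_zpowers a)) (hKN hk)
    (fun b hb => htriv b (hZle hb) k hk)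
  have h1 := Subgroup.mem_centralizer_iff.mp hc a (Subgroup.mem_zpowers a)
  have h2 : n * a = a * n := Subgroup.mem_centralizer_iff.mp (hN ha) n hn
  calc k * a = k * n * a * n⁻¹ := by rw [mul_assoc k n a, h2]; group
    _ = a * k := by rw [← h1]; group

/-- Trivial action on the Frattini quotient. -/
theorem le_centralizer_of_frattini {A K : Subgroup G}
    (hcop : (Nat.card A).Coprime (Nat.card (frattini K)))
    (htriv : ∀ a ∈ A, ∀ k ∈ K, a * k * a⁻¹ * k⁻¹ ∈ (frattini K).map K.subtype) :
    A ≤ Subgroup.centralizer (K : Set G) := by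
  set N := (frattini K).map K.subtype with hN
  have hKN : K ≤ Subgroup.normalizer (N : Set G) := by
    rw [Subgroup.le_normalizer_iff]
    rintro h hh _ ⟨x, hx, rfl⟩
    exact ⟨⟨h, hh⟩ * x * ⟨h, hh⟩⁻¹, (inferInstance : (frattini K).Normal).conj_mem x hx _, rfl⟩
  have hNK : N ≤ K := Subgroup.map_subtype_le _
  have hcN : Nat.card N = Nat.card (frattini K) :=
    (Nat.card_congr ((frattini K).equivMapOfInjective K.subtype K.subtype_injective).toEquiv).symm
  intro a ha
  have hZle : Subgroup.zpowers a ≤ A := Subgroup.zpowers_le.mpr ha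
  have hAN : Subgroup.zpowers a ≤ Subgroup.normalizer (N : Set G) := by
    rw [Subgroup.le_normalizer_iff]
    intro b hb n hn
    have := mul_mem (htriv b (hZle hb) n (hNK hn)) hn
    simpa [mul_assoc] using this
  set C := K ⊓ Subgroup.centralizer (Subgroup.zpowers a : Set G) with hC
  have htop : C.subgroupOf K = ⊤ := by
    refine frattini_nongenerating (eq_top_iff.mpr fun k _ => ?_)
    obtain ⟨n, hn, hc⟩ := exists_mem_centralizer_of_fixed_coset hAN
      ((hcN ▸ hcop).coprime_dvd_left (Subgroup.card_dvd_of_le hZle)) (Or.inl (isSolvable_zpowers a))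
      (hKN k.2) (fun b hb => htriv b (hZle hb) k k.2)
    obtain ⟨n', hn', rfl⟩ := hn
    have h1 : k * n' ∈ C.subgroupOf K := ⟨mul_mem k.2 n'.2, hc⟩
    simpa [mul_assoc] using
      mul_mem (Subgroup.mem_sup_left h1 : _ ∈ C.subgroupOf K ⊔ frattini K)
        (Subgroup.mem_sup_right (inv_mem hn'))
  rw [Subgroup.mem_centralizer_iff]
  intro k hk
  have h1 : k ∈ C := Subgroup.subgroupOf_eq_top.mp htop hk
  exact (Subgroup.mem_centralizer_iff.mp h1.2 a (Subgroup.mem_zpowers a)).symm

end Cfsg.Agent.Lib.Coprime
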