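import Mathlib.GroupTheory.Frattini
import Mathlib.GroupTheory.SpecificGroups.ZGroup
import Mathlib.Algebra.Field.ZMod
import Cfsg.Agent.Lib.Coprime.Action

/-!
Generation of `K` by centralizers of nonidentity elements of a noncyclic abelian `A`
acting coprimely.
-/

set_option autoImplicit false

open Pointwise
open scoped IsMulCommutative
open scoped commutatorElement

namespace Cfsg.Agent.Lib.Coprime

/-- Norms over the `q + 1` cyclic subgroups of `(ZMod q)²` generate `x ^ q`. -/
theorem pow_prime_mul_norm {q : ℕ} [Fact q.Prime] {V : Type*} [CommGroup V]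
    (f : ZMod q × ZMod q → V) :
    (∏ i : ZMod q, ∏ j : ZMod q, f (j, i * j)) * ∏ j : ZMod q, f (0, j) =
      f 0 ^ q * ∏ x : ZMod q × ZMod q, f x := by
  classical
  have h0 : ∀ g : ZMod q → V, ∏ j, g j = g 0 * ∏ j ∈ Finset.univ.erase 0, g j := fun g =>
    (Finset.mul_prod_erase _ g (Finset.mem_univ 0)).symm
  rw [Finset.prod_comm, h0 (fun j => ∏ i : ZMod q, f (j, i * j))]
  have h1 : (∏ j ∈ Finset.univ.erase (0 : ZMod q), ∏ i : ZMod q, f (j, i * j)) =
      ∏ j ∈ Finset.univ.erase (0 : ZMod q), ∏ i : ZMod q, f (j, i) := by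
    refine Finset.prod_congr rfl fun j hj => ?_
    exact Fintype.prod_equiv (Equiv.mulRight₀ j (Finset.ne_of_mem_erase hj)) _ _ (fun i => rfl)
  simp only [mul_zero, h1, Finset.prod_const, Finset.card_univ, ZMod.card]
  rw [Fintype.prod_prod_type, h0 (fun j => ∏ i : ZMod q, f (j, i)), Prod.zero_eq_mk]
  simp only [mul_comm, mul_left_comm]

/-- Powers of two commuting elements of order dividing `q`, as a function on `(ZMod q)²`. -/
def pairPow {M : Type*} [Monoid M] {q : ℕ} (a b : M) (x : ZMod q × ZMod q) : M :=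
  a ^ x.1.val * b ^ x.2.val

theorem pairPow_add {M : Type*} [Monoid M] {q : ℕ} [NeZero q] {a b : M} (hab : Commute a b)
    (ha : a ^ q = 1) (hb : b ^ q = 1) (x y : ZMod q × ZMod q) :
    pairPow a b (x + y) = pairPow a b x * pairPow a b y := by
  simp only [pairPow, Prod.fst_add, Prod.snd_add, ZMod.val_add]
  rw [← pow_eq_pow_mod _ ha, ← pow_eq_pow_mod _ hb, pow_add, pow_add]
  have h := (hab.pow_pow y.1.val x.2.val).eq
  calc a ^ x.1.val * a ^ y.1.val * (b ^ x.2.val * b ^ y.2.val)
      = a ^ x.1.val * (a ^ y.1.val * b ^ x.2.val) * b ^ y.2.val := by simp only [mul_assoc]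
    _ = _ := by rw [h]; simp only [mul_assoc]

theorem exists_pair_of_not_isCyclic {G : Type*} [Group G] [Finite G] {A : Subgroup G}
    [IsMulCommutative A] (hA : ¬ IsCyclic A) :
    ∃ (q : ℕ) (a b : G), q.Prime ∧ a ∈ A ∧ b ∈ A ∧ orderOf a = q ∧ orderOf b = q ∧
      b ∉ Subgroup.zpowers a := by
  classical
  have : Fintype A := Fintype.ofFinite A
  by_contra hne
  push Not at hne
  have hbound : ∀ q : ℕ, q.Prime → ∀ k, Nat.card {x : A // x ^ q ^ k = 1} ≤ q ^ k := by
    intro q hq k
    have hq1 : Nat.card {x : A // x ^ q = 1} ≤ q := by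
      by_cases hex : ∃ x : A, x ^ q = 1 ∧ x ≠ 1
      · obtain ⟨z, hz, hz1⟩ := hex
        have hord : orderOf (z : G) = q := by
          rw [Subgroup.orderOf_coe]
          have := Fact.mk hq
          exact orderOf_eq_prime hz hz1
        have hsub : ∀ x : A, x ^ q = 1 → x ∈ Subgroup.zpowers z := by
          intro x hx
          by_cases hx1 : x = 1
          · exact hx1 ▸ one_mem _
          · have hxo : orderOf (x : G) = q := by
              rw [Subgroup.orderOf_coe]
              have := Fact.mk hq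
              exact orderOf_eq_prime hx hx1
            obtain ⟨i, hi⟩ := hne q z x hq z.2 x.2 hord hxo
            exact ⟨i, Subtype.ext (by simpa using hi)⟩
        calc Nat.card {x : A // x ^ q = 1} ≤ Nat.card (Subgroup.zpowers z) :=
              Nat.card_le_card_of_injective (fun x => ⟨x.1, hsub x.1 x.2⟩)
                (fun x y h => Subtype.ext (by simpa using h))
          _ = q := by rw [Nat.card_zpowers, ← Subgroup.orderOf_coe, hord]
      · push Not at hex
        calc Nat.card {x : A // x ^ q = 1} ≤ Nat.card Unit :=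
              Nat.card_le_card_of_injective (fun _ => ())
                (fun x y _ => Subtype.ext ((hex x x.2).trans (hex y y.2).symm))
          _ ≤ q := by simpa using hq.one_lt.le
    let e : ℕ → (A →* A) := fun m =>
      { toFun := fun x => x ^ m
        map_one' := one_pow _
        map_mul' := fun x y => Commute.mul_pow (IsMulCommutative.is_comm.comm x y) _ }
    induction k with
    | zero =>
      calc Nat.card {x : A // x ^ q ^ 0 = 1} ≤ Nat.card Unit :=
            Nat.card_le_card_of_injective (fun _ => ())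
              (fun x y _ => Subtype.ext (by simpa using x.2.trans y.2.symm))
        _ = q ^ 0 := by simp
    | succ k ih =>
      have hk1 : Nat.card (e (q ^ (k + 1))).ker = Nat.card (e q).ker *
          Nat.card ((e (q ^ (k + 1))).ker.map (e q)) := by
        have hle : (e q).ker ≤ (e (q ^ (k + 1))).ker := by
          intro x hx
          show x ^ q ^ (k + 1) = 1
          rw [pow_succ', pow_mul, show x ^ q = 1 from hx, one_pow]
        rw [← Subgroup.relIndex_ker, Subgroup.inf_relIndex_right (e q).ker _ |>.symm,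
          inf_eq_left.mpr hle]
        exact (relIndex_mul_card hle).symm
      have h2 : Nat.card ((e (q ^ (k + 1))).ker.map (e q)) ≤ Nat.card (e (q ^ k)).ker := by
        refine Subgroup.card_le_of_le ?_
        rintro _ ⟨x, hx, rfl⟩
        show (x ^ q) ^ q ^ k = 1
        rw [← pow_mul, ← pow_succ']
        exact hx
      show Nat.card (e (q ^ (k + 1))).ker ≤ q ^ (k + 1)
      rw [hk1]
      conv_rhs => rw [pow_succ']
      exact Nat.mul_le_mul (show Nat.card (e q).ker ≤ q from hq1)
        (h2.trans (show Nat.card (e (q ^ k)).ker ≤ q ^ k from ih))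
  apply hA
  have : IsZGroup A := ⟨fun q hq P => ?_⟩
  · have : Group.IsNilpotent A := CommGroup.isNilpotent (G := A)
    infer_instance
  · have := Fact.mk hq
    obtain ⟨k, hk⟩ := IsPGroup.iff_card.mp P.2
    rcases Nat.eq_zero_or_pos k with rfl | hk0
    · rw [pow_zero] at hk
      have := (Nat.card_eq_one_iff_unique.mp hk).1
      infer_instance
    by_contra hcyc
    -- no element of `P` has full order, so all are killed by `q ^ (k - 1)`
    have hall : ∀ x : (P : Subgroup A), (x : A) ^ q ^ (k - 1) = 1 := by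
      intro x
      obtain ⟨j, hjk, hj⟩ := (Nat.dvd_prime_pow hq).mp (hk ▸ orderOf_dvd_natCard x)
      have hjlt : j < k := by
        refine lt_of_le_of_ne hjk fun h => hcyc ?_
        exact isCyclic_of_orderOf_eq_card x (by rw [hj, h, hk])
      have h1 : x ^ q ^ (k - 1) = 1 :=
        orderOf_dvd_iff_pow_eq_one.mp (hj ▸ pow_dvd_pow q (by omega))
      exact_mod_cast congrArg Subtype.val h1
    have h2 : Nat.card (P : Subgroup A) ≤ q ^ (k - 1) :=
      le_trans (Nat.card_le_card_of_injective
        (fun x : (P : Subgroup A) => (⟨x.1, hall x⟩ : {y : A // y ^ q ^ (k - 1) = 1}))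
        (fun x y h => Subtype.ext (by simpa using h))) (hbound q hq (k - 1))
    rw [hk] at h2
    exact absurd ((Nat.pow_le_pow_iff_right hq.one_lt).mp h2) (by omega)

variable {G : Type*} [Group G] [Finite G]

/-- A coset fixed by a single element of coprime order meets its centralizer. -/
theorem mem_sup_centralizer_singleton {K N : Subgroup G} {c k : G} (hNK : N ≤ K)
    (hKN : K ≤ Subgroup.normalizer (N : Set G)) (hcN : c ∈ Subgroup.normalizer (N : Set G))
    (hcop : (orderOf c).Coprime (Nat.card K)) (hk : k ∈ K) (hfix : c * k * c⁻¹ * k⁻¹ ∈ N) :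
    k ∈ N ⊔ (K ⊓ Subgroup.centralizer ({c} : Set G)) := by
  have hall : ∀ a ∈ Subgroup.zpowers c, a * k * a⁻¹ * k⁻¹ ∈ N := by
    intro a ha
    obtain ⟨n, rfl⟩ := (mem_powers_iff_mem_zpowers).mpr ha
    induction n with
    | zero => simp
    | succ n ih =>
      have h1 : c * (c ^ n * k * (c ^ n)⁻¹ * k⁻¹) * c⁻¹ ∈ N :=
        (Subgroup.mem_normalizer_iff.mp hcN _).mp (ih ⟨n, by simp⟩)
      have h2 := mul_mem h1 hfix
      simp only [pow_succ']
      simpa [mul_assoc] using h2
  obtain ⟨n, hn, hc⟩ := exists_mem_centralizer_of_fixed_coset (Subgroup.zpowers_le.mpr hcN)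
    ((Nat.card_zpowers c).symm ▸ hcop.coprime_dvd_right (Subgroup.card_dvd_of_le hNK))
    (Or.inl (isSolvable_zpowers c)) (hKN hk) hall
  have h1 : k * n ∈ K ⊓ Subgroup.centralizer ({c} : Set G) :=
    ⟨mul_mem hk (hNK hn), Subgroup.mem_centralizer_singleton_iff.mpr
      ((Subgroup.mem_centralizer_iff.mp hc c (Subgroup.mem_zpowers c)).symm)⟩
  simpa [mul_assoc] using
    mul_mem (Subgroup.mem_sup_right h1 : _ ∈ N ⊔ (K ⊓ Subgroup.centralizer ({c} : Set G)))
      (Subgroup.mem_sup_left (inv_mem hn))

/-- Abelian sections are covered by the centralizers. -/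
theorem le_sup_iSup_centralizer {A K N : Subgroup G} [IsMulCommutative A] (hA : ¬ IsCyclic A)
    (hAK : A ≤ Subgroup.normalizer (K : Set G)) (hcop : (Nat.card A).Coprime (Nat.card K))
    (hNK : N ≤ K) (hKN : K ≤ Subgroup.normalizer (N : Set G))
    (hAN : A ≤ Subgroup.normalizer (N : Set G)) (hab : ⁅K, K⁆ ≤ N) :
    K ≤ N ⊔ ⨆ a ∈ {a : G | a ∈ A ∧ a ≠ 1}, K ⊓ Subgroup.centralizer ({a} : Set G) := by
  classical
  set S := ⨆ a ∈ {a : G | a ∈ A ∧ a ≠ 1}, K ⊓ Subgroup.centralizer ({a} : Set G) with hS
  obtain ⟨q, a, b, hq, ha, hb, hoa, hob, hba⟩ := exists_pair_of_not_isCyclic hA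
  have := Fact.mk hq
  have hn : (N.subgroupOf K).Normal := Subgroup.normal_subgroupOf_of_le_normalizer hKN
  let mk : K →* K ⧸ N.subgroupOf K := QuotientGroup.mk' _
  let _ : CommGroup (K ⧸ N.subgroupOf K) :=
    { mul_comm := fun x y => by
        induction x using QuotientGroup.induction_on with
        | _ x =>
        induction y using QuotientGroup.induction_on with
        | _ y =>
        rw [← QuotientGroup.mk_mul, ← QuotientGroup.mk_mul, QuotientGroup.eq]
        show ((x * y)⁻¹ * (y * x) : G) ∈ N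
        have h := hab (Subgroup.commutator_mem_commutator (inv_mem y.2) (inv_mem x.2))
        simpa [commutatorElement_def, mul_assoc] using h }
  have hmk : ∀ x y : K, mk x = mk y → (x : G) * (y : G)⁻¹ ∈ N := by
    intro x y h
    have h1 : mk (x * y⁻¹) = 1 := by rw [map_mul, map_inv, h, mul_inv_cancel]
    have h2 : x * y⁻¹ ∈ N.subgroupOf K := (QuotientGroup.eq_one_iff _).mp h1
    exact h2
  intro k hk
  let e : ZMod q × ZMod q → G := pairPow a b
  have hea : ∀ x, e x ∈ A := fun x => mul_mem (pow_mem ha _) (pow_mem hb _)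
  let cj : ∀ c ∈ A, K → K := fun c hc x =>
    ⟨c * x * c⁻¹, (Subgroup.mem_normalizer_iff.mp (hAK hc) _).mp x.2⟩
  let f : ZMod q × ZMod q → K ⧸ N.subgroupOf K := fun x => mk (cj (e x) (hea x) ⟨k, hk⟩)
  -- a product over an orbit of a nonidentity element lies in the image of `S`
  let T : Subgroup (K ⧸ N.subgroupOf K) := (S.subgroupOf K).map mk
  have key : ∀ (d : ZMod q × ZMod q), d ≠ 0 → ∀ (ι : Type) (s : Finset ι) (σ : ι ≃ ι)
      (g : ι → ZMod q × ZMod q), (∀ i, σ i ∈ s ↔ i ∈ s) → (∀ i, g (σ i) = d + g i) →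
      ∏ i ∈ s, f (g i) ∈ T := by
    intro d hd ι s σ g hσs hσ
    have hcA : e d ∈ A := hea d
    have hc1 : e d ≠ 1 := by
      intro h
      have h' : a ^ d.1.val * b ^ d.2.val = 1 := h
      rcases eq_or_ne d.2 0 with h2 | h2
      · rw [h2, ZMod.val_zero, pow_zero, mul_one, ← orderOf_dvd_iff_pow_eq_one, hoa] at h'
        refine hd (Prod.ext ?_ h2)
        have := Nat.eq_zero_of_dvd_of_lt h' (ZMod.val_lt d.1)
        exact (ZMod.val_eq_zero d.1).mp this
      · apply hba
        have hbi : b ^ d.2.val ∈ Subgroup.zpowers a := by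
          rw [eq_inv_of_mul_eq_one_right h']
          exact inv_mem (pow_mem (Subgroup.mem_zpowers a) _)
        have hcop2 : (d.2.val).Coprime (orderOf b) := by
          rw [hob]
          refine Nat.Coprime.symm (hq.coprime_iff_not_dvd.mpr fun hdvd => h2 ?_)
          exact (ZMod.val_eq_zero d.2).mp (Nat.eq_zero_of_dvd_of_lt hdvd (ZMod.val_lt d.2))
        obtain ⟨m, hm⟩ := exists_pow_eq_self_of_coprime hcop2
        rw [← hm]
        exact pow_mem hbi m
    let φ : K →* K :=
      { toFun := cj (e d) hcA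
        map_one' := Subtype.ext (by simp [cj])
        map_mul' := fun x y => Subtype.ext (by simp [cj, mul_assoc]) }
    let θ : (K ⧸ N.subgroupOf K) →* (K ⧸ N.subgroupOf K) :=
      QuotientGroup.map _ _ φ (fun x hx =>
        (Subgroup.mem_normalizer_iff.mp (hAN hcA) _).mp hx)
    have hθ : θ (∏ i ∈ s, f (g i)) = ∏ i ∈ s, f (g i) := by
      rw [map_prod]
      refine Finset.prod_equiv σ (fun i => (hσs i).symm) (fun i _ => ?_)
      show mk (φ (cj (e (g i)) (hea _) ⟨k, hk⟩)) = mk (cj (e (g (σ i))) (hea _) ⟨k, hk⟩)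
      congr 1
      apply Subtype.ext
      have hab' : Commute a b :=
        congrArg Subtype.val (IsMulCommutative.is_comm.comm (⟨a, ha⟩ : A) ⟨b, hb⟩)
      simp only [φ, cj, hσ i, e, MonoidHom.coe_mk, OneHom.coe_mk,
        pairPow_add hab' (hoa ▸ pow_orderOf_eq_one a) (hob ▸ pow_orderOf_eq_one b)]
      simp [mul_assoc]
    obtain ⟨k₁, hk₁⟩ := QuotientGroup.mk'_surjective (N.subgroupOf K) (∏ i ∈ s, f (g i))
    have hfix : e d * (k₁ : G) * (e d)⁻¹ * (k₁ : G)⁻¹ ∈ N := by
      refine hmk (φ k₁) k₁ ?_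
      rw [← hk₁] at hθ
      exact hθ
    have h1 := mem_sup_centralizer_singleton hNK hKN (hAN hcA)
      (hcop.coprime_dvd_left (A.orderOf_dvd_natCard hcA)) k₁.2 hfix
    obtain ⟨n, hn, c, hc, hnc⟩ :=
      exists_mul_of_mem_sup (inf_le_left.trans hKN) h1
    have hcS : c ∈ S := by
      refine Subgroup.mem_iSup_of_mem (e d) ?_
      exact Subgroup.mem_iSup_of_mem (show e d ∈ {a : G | a ∈ A ∧ a ≠ 1} from ⟨hcA, hc1⟩) hc
    refine ⟨⟨c, hc.1⟩, hcS, ?_⟩
    rw [← hk₁]
    refine (QuotientGroup.eq.mpr ?_)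
    show c⁻¹ * (k₁ : G) ∈ N
    rw [hnc]
    simpa [mul_assoc] using (Subgroup.mem_normalizer_iff''.mp (hKN hc.1) n).mp hn
  have hA1 : ∀ i : ZMod q, ∏ j : ZMod q, f (j, i * j) ∈ T := fun i =>
    key (1, i) (by simp [Prod.ext_iff]) _ Finset.univ (Equiv.addLeft 1) (fun j => (j, i * j))
      (fun j => by simp) (fun j => Prod.ext rfl (by simp [mul_add]))
  have hA2 : ∏ j : ZMod q, f (0, j) ∈ T :=
    key (0, 1) (by simp [Prod.ext_iff]) _ Finset.univ (Equiv.addLeft 1) (fun j => (0, j))
      (fun j => by simp) (fun j => Prod.ext (by simp) rfl)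
  have hA3 : ∏ x : ZMod q × ZMod q, f x ∈ T :=
    key (1, 0) (by simp [Prod.ext_iff]) _ Finset.univ (Equiv.addLeft (1, 0)) id
      (fun j => by simp) (fun j => rfl)
  have h4 : f 0 ^ q ∈ T := by
    have h := mul_mem (mul_mem (T.prod_mem fun i (_ : i ∈ Finset.univ) => hA1 i) hA2) (inv_mem hA3)
    rwa [pow_prime_mul_norm, mul_inv_cancel_right] at h
  have hqK : q.Coprime (orderOf (f 0)) := by
    refine Nat.Coprime.coprime_dvd_right ?_ ((hcop.coprime_dvd_left (hoa ▸ A.orderOf_dvd_natCard ha)))
    exact (orderOf_dvd_natCard _).trans (Subgroup.card_quotient_dvd_card _)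
  obtain ⟨m, hm⟩ := exists_pow_eq_self_of_coprime hqK
  have h5 : f 0 ∈ T := hm ▸ pow_mem h4 m
  have hf0 : f 0 = mk ⟨k, hk⟩ := by
    refine congrArg mk (Subtype.ext ?_)
    simp [cj, e, pairPow]
  obtain ⟨s, hs, hsk⟩ := hf0 ▸ h5
  have h6 : k * (s : G)⁻¹ ∈ N := hmk ⟨k, hk⟩ s hsk.symm
  simpa [mul_assoc] using
    mul_mem (Subgroup.mem_sup_left h6 : _ ∈ N ⊔ S) (Subgroup.mem_sup_right hs)

/-- In a finite `p`-group the commutator subgroup lies in the Frattini subgroup. -/
theorem commutator_le_frattini_of_isPGroup {H : Type*} [Group H] [Finite H] {p : ℕ} [Fact p.Prime]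
    (hH : IsPGroup p H) : commutator H ≤ frattini H := by
  have : Group.IsNilpotent H := hH.isNilpotent
  simp only [frattini, Order.radical, le_iInf_iff]
  intro M hM
  have : M.Normal := Subgroup.NormalizerCondition.normal_of_coatom M
    Group.normalizerCondition_of_isNilpotent hM
  have hp : (M.index).Prime := by
    have : Group.IsSolvable H := inferInstance
    have hsimple : IsSimpleGroup (H ⧸ M) := by
      have : Nontrivial (H ⧸ M) := by
        refine QuotientGroup.nontrivial_iff.mpr hM.1
      refine ⟨fun X _ => ?_⟩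
      by_cases h : X.comap (QuotientGroup.mk' M) = M
      · left
        rw [← Subgroup.map_comap_eq_self_of_surjective (QuotientGroup.mk'_surjective M) X, h,
          QuotientGroup.map_mk'_self]
      · right
        have hle : M ≤ X.comap (QuotientGroup.mk' M) := fun y hy => by
          show QuotientGroup.mk' M y ∈ X
          rw [show QuotientGroup.mk' M y = 1 from (QuotientGroup.eq_one_iff y).mpr hy]
          exact one_mem _
        rw [← Subgroup.map_comap_eq_self_of_surjective (QuotientGroup.mk'_surjective M) X,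
          hM.2 _ (lt_of_le_of_ne hle (Ne.symm h))]
        exact Subgroup.map_top_of_surjective _ (QuotientGroup.mk'_surjective M)
    rw [Subgroup.index_eq_card]
    obtain ⟨n, hn⟩ := IsPGroup.iff_card.mp (hH.to_quotient M)
    have hc : Subgroup.center (H ⧸ M) = ⊤ := by
      exact ((hsimple.eq_bot_or_eq_top_of_normal _ inferInstance).resolve_left
        (hH.to_quotient M).bot_lt_center.ne')
    have : IsMulCommutative (H ⧸ M) := ⟨⟨fun x y => (Subgroup.mem_center_iff.mp
      (hc ▸ Subgroup.mem_top y) x)⟩⟩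
    exact IsSimpleGroup.prime_card
  rw [Subgroup.index_eq_card] at hp
  have := Fact.mk hp
  have hcyc : IsCyclic (H ⧸ M) := isCyclic_of_prime_card rfl
  exact Subgroup.Normal.quotient_commutative_iff_commutator_le.mp
    hcyc.isMulCommutative

/-- The centralizers of the nonidentity elements generate. -/
theorem iSup_centralizer_eq {A K : Subgroup G} [IsMulCommutative A] (hA : ¬ IsCyclic A)
    (hAK : A ≤ Subgroup.normalizer (K : Set G)) (hcop : (Nat.card A).Coprime (Nat.card K)) :
    (⨆ a ∈ {a : G | a ∈ A ∧ a ≠ 1}, K ⊓ Subgroup.centralizer ({a} : Set G)) = K := by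
  set S := fun K : Subgroup G =>
    ⨆ a ∈ {a : G | a ∈ A ∧ a ≠ 1}, K ⊓ Subgroup.centralizer ({a} : Set G) with hS
  have hmono : ∀ {X Y : Subgroup G}, X ≤ Y → S X ≤ S Y := fun h =>
    iSup₂_mono fun a _ => inf_le_inf_right _ h
  have hle : ∀ X, S X ≤ X := fun X => iSup₂_le fun a _ => inf_le_left
  show S K = K
  refine le_antisymm (hle K) ?_
  have hsylow : ∀ p : ℕ, p.Prime → ∀ P : Subgroup G, IsPGroup p P →
      A ≤ Subgroup.normalizer (P : Set G) → (Nat.card A).Coprime (Nat.card P) → P ≤ S P := by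
    intro p hp P hP hAP hcP
    have := Fact.mk hp
    set N := (frattini P).map P.subtype with hN
    have hNn : Subgroup.normalizer (P : Set G) ≤ Subgroup.normalizer (N : Set G) := by
      intro x hx
      refine mem_normalizer_of_conj_smul_eq ?_
      have h1 : MulAut.conj x • P = P := conj_smul_eq_of_mem_normalizer hx
      let θ : P ≃* P := (Subgroup.equivSMul (MulAut.conj x) P).trans (MulEquiv.subgroupCongr h1)
      have h2 := Subgroup.characteristic_iff_map_eq.mp (inferInstance : (frattini P).Characteristic) θ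
      ext y
      rw [mem_conj_smul]
      constructor
      · rintro ⟨z, hz, hzy⟩
        refine ⟨θ z, h2 ▸ Subgroup.mem_map_of_mem _ hz, ?_⟩
        show x * (z : G) * x⁻¹ = y
        have : (z : G) = x⁻¹ * y * x := hzy
        simp [this, mul_assoc]
      · rintro ⟨z, hz, rfl⟩
        rw [← h2] at hz
        obtain ⟨w, hw, rfl⟩ := hz
        refine ⟨w, hw, ?_⟩
        show (w : G) = x⁻¹ * (x * w * x⁻¹) * x
        group
    have hab : ⁅P, P⁆ ≤ N := by
      rw [← Subgroup.map_subtype_commutator P]
      exact Subgroup.map_mono (commutator_le_frattini_of_isPGroup hP)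
    have h1 := le_sup_iSup_centralizer hA hAP hcP (Subgroup.map_subtype_le _)
      (Subgroup.le_normalizer.trans hNn) (hAP.trans hNn) hab
    have htop : (S P).subgroupOf P = ⊤ := by
      refine frattini_nongenerating (eq_top_iff.mpr fun x _ => ?_)
      have h2 : P ≤ ((S P).subgroupOf P ⊔ frattini P).map P.subtype := by
        rw [Subgroup.map_sup, Subgroup.map_subgroupOf_eq_of_le (hle P), sup_comm]
        exact h1
      obtain ⟨y, hy, hyx⟩ := h2 x.2
      rwa [← Subtype.ext hyx (a2 := x)]
    exact Subgroup.subgroupOf_eq_top.mp htop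
  have hAsolv : Group.IsSolvable A :=
    Group.isSolvable_of_comm fun a b => IsMulCommutative.is_comm.comm a b
  refine (eq_of_le_of_card_le (hle K) ?_).ge
  have hSK : Nat.card K ∣ Nat.card (S K) := by
    rw [← Nat.factorization_prime_le_iff_dvd Nat.card_pos.ne' Nat.card_pos.ne']
    intro p hp
    have := Fact.mk hp
    obtain ⟨P, hP⟩ := exists_invariant_sylow hAK hcop (Or.inl hAsolv) p
    have hPc : Nat.card ((P : Subgroup K).map K.subtype) = p ^ (Nat.card K).factorization p := by
      rw [Nat.card_congr ((P : Subgroup K).equivMapOfInjective K.subtype K.subtype_injective).toEquiv.symm,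
        P.card_eq_multiplicity]
    have h1 := (hsylow p hp _ (P.2.map _) hP (hcop.coprime_dvd_right
      (Subgroup.card_dvd_of_le (Subgroup.map_subtype_le _)))).trans (hmono (Subgroup.map_subtype_le _))
    exact (hp.pow_dvd_iff_le_factorization Nat.card_pos.ne').mp (hPc ▸ Subgroup.card_dvd_of_le h1)
  exact Nat.le_of_dvd Nat.card_pos hSK

end Cfsg.Agent.Lib.Coprime
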