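import Mathlib.Data.Nat.Factorization.Basic
import Cfsg.Agent.Lib.Coprime.SchurZassenhaus

/-!
Hall's theorems for finite solvable groups.

Main results:
* `exists_normal_isPGroup_isMulCommutative`: a nontrivial solvable group has a nontrivial
  normal abelian `p`-subgroup.
* `exists_subgroup_card_eq_of_solvable`: existence.
* `exists_le_conj_of_solvable`: dominance.
* `exists_conj_eq_of_solvable`: conjugacy.
* `exists_hall_of_solvable`: existence, stated for a set of primes.
-/

set_option autoImplicit false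

open Pointwise
open scoped commutatorElement

namespace Cfsg.Agent.Lib.Coprime

universe u

/-- A nontrivial normal solvable subgroup contains a nontrivial normal abelian `p`-subgroup. -/
theorem exists_normal_abelian_pgroup_le {G : Type*} [Group G] [Finite G] {N : Subgroup G}
    [hNn : N.Normal] (hN : N ≠ ⊥) (hsolv : Group.IsSolvable N) :
    ∃ (p : ℕ) (M : Subgroup G), p.Prime ∧ M.Normal ∧ M ≠ ⊥ ∧ M ≤ N ∧ IsMulCommutative M ∧
      IsPGroup p M ∧ ∀ x ∈ M, x ^ p = 1 := by
  obtain ⟨c, hc⟩ : ∃ c, Nat.card N = c := ⟨_, rfl⟩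
  induction c using Nat.strongRecOn generalizing N with
  | ind c ih =>
  by_cases hC : ⁅N, N⁆ = ⊥
  · have hcomm : ∀ x ∈ N, ∀ y ∈ N, x * y = y * x := fun x hx y hy =>
      (Subgroup.mem_centralizer_iff.mp
        (Subgroup.commutator_eq_bot_iff_le_centralizer.mp hC hx) y hy).symm
    obtain ⟨p, hp, hdvd⟩ := Nat.exists_prime_and_dvd (n := Nat.card N)
      (fun h => hN (Subgroup.card_eq_one.mp h))
    have := Fact.mk hp
    obtain ⟨z, hz⟩ := exists_prime_orderOf_dvd_card' (G := N) p hdvd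
    let M : Subgroup G :=
      { carrier := {x | x ∈ N ∧ x ^ p = 1}
        one_mem' := ⟨one_mem _, one_pow _⟩
        mul_mem' := fun {a b} ha hb =>
          ⟨mul_mem ha.1 hb.1, by
            rw [Commute.mul_pow (hcomm a ha.1 b hb.1), ha.2, hb.2, one_mul]⟩
        inv_mem' := fun {a} ha => ⟨inv_mem ha.1, by rw [inv_pow, ha.2, inv_one]⟩ }
    refine ⟨p, M, hp, ⟨fun x hx g => ⟨hNn.conj_mem x hx.1 g, ?_⟩⟩, ?_, fun x hx => hx.1,
      ⟨⟨fun a b => Subtype.ext (hcomm a a.2.1 b b.2.1)⟩⟩, fun x => ⟨1, ?_⟩, fun x hx => hx.2⟩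
    · rw [← MulAut.conj_apply, ← map_pow, hx.2, map_one]
    · intro h
      have hzM : (z : G) ∈ M := ⟨z.2, by rw [← SubmonoidClass.coe_pow, ← hz, pow_orderOf_eq_one]; rfl⟩
      rw [h, Subgroup.mem_bot] at hzM
      rw [Subtype.ext hzM (a2 := (1 : N)), orderOf_one] at hz
      exact hp.one_lt.ne hz
    · exact Subtype.ext (by simpa using x.2.2)
  · have hlt : Nat.card (⁅N, N⁆ : Subgroup G) < c := by
      rw [← hc]
      refine lt_of_not_ge fun h => ?_
      have heq := eq_of_le_of_card_le (Subgroup.commutator_le_self N) h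
      have : Nontrivial N := (Subgroup.nontrivial_iff_ne_bot N).mpr hN
      apply ne_of_lt (Group.IsSolvable.commutator_lt_top_of_nontrivial (G := N) (hG := hsolv))
      apply Subgroup.map_injective N.subtype_injective
      rw [commutator_def, Subgroup.map_commutator, ← MonoidHom.range_eq_map, Subgroup.range_subtype]
      exact heq
    obtain ⟨p, M, hp, hMn, hM0, hMle, hrest⟩ := ih _ hlt (hNn := Subgroup.commutator_normal N N)
      hC (isSolvable_of_le (Subgroup.commutator_le_self N) hsolv) rfl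
    exact ⟨p, M, hp, hMn, hM0, hMle.trans (Subgroup.commutator_le_self N), hrest⟩

theorem exists_normal_isPGroup_isMulCommutative (G : Type*) [Group G] [Finite G]
    [Group.IsSolvable G] [Nontrivial G] :
    ∃ (p : ℕ) (M : Subgroup G), p.Prime ∧ M.Normal ∧ M ≠ ⊥ ∧ IsMulCommutative M ∧
      IsPGroup p M ∧ ∀ x ∈ M, x ^ p = 1 := by
  obtain ⟨p, M, hp, hn, h0, -, hrest⟩ := exists_normal_abelian_pgroup_le (N := (⊤ : Subgroup G))
    top_ne_bot inferInstance
  exact ⟨p, M, hp, hn, h0, hrest⟩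

theorem isSolvable_of_isMulCommutative {G : Type*} [Group G] (M : Subgroup G)
    [IsMulCommutative M] : Group.IsSolvable M :=
  Group.isSolvable_of_comm fun a b => IsMulCommutative.is_comm.comm a b

/-- Order of a quotient. -/
theorem card_quotient_mul_card {G : Type*} [Group G] (M : Subgroup G) :
    Nat.card (G ⧸ M) * Nat.card M = Nat.card G :=
  M.card_eq_card_quotient_mul_card_subgroup.symm

/-- Order of the preimage of a subgroup of a quotient. -/
theorem card_comap_mk' {G : Type*} [Group G] [Finite G] (M : Subgroup G) [M.Normal]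
    (X : Subgroup (G ⧸ M)) :
    Nat.card (X.comap (QuotientGroup.mk' M)) = Nat.card M * Nat.card X := by
  have h1 := (X.comap (QuotientGroup.mk' M)).card_mul_index
  rw [Subgroup.index_comap_of_surjective _ (QuotientGroup.mk'_surjective M)] at h1
  have h2 := X.card_mul_index
  have h3 := card_quotient_mul_card M
  apply Nat.eq_of_mul_eq_mul_right (Nat.pos_of_ne_zero (Subgroup.index_ne_zero_of_finite (H := X)))
  rw [h1, ← h3, ← h2]
  ring

/-- The order of a nontrivial `p`-subgroup is a power of `p` dividing one of the coprime parts. -/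
theorem coprime_split {p k m n : ℕ} (hp : p.Prime) (hk : 0 < k) (hdvd : p ^ k ∣ m * n)
    (hmn : m.Coprime n) :
    (p ^ k ∣ m ∧ (p ^ k).Coprime n) ∨ (p ^ k ∣ n ∧ (p ^ k).Coprime m) := by
  have hpmn : p ∣ m * n := (dvd_pow_self p hk.ne').trans hdvd
  rcases hp.dvd_mul.mp hpmn with h | h
  · have hn : ¬ p ∣ n := fun h' => hp.not_dvd_one (hmn ▸ Nat.dvd_gcd h h')
    have hc : (p ^ k).Coprime n := Nat.Coprime.pow_left k (hp.coprime_iff_not_dvd.mpr hn)
    exact Or.inl ⟨hc.dvd_of_dvd_mul_right hdvd, hc⟩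
  · have hm : ¬ p ∣ m := fun h' => hp.not_dvd_one (hmn ▸ Nat.dvd_gcd h' h)
    have hc : (p ^ k).Coprime m := Nat.Coprime.pow_left k (hp.coprime_iff_not_dvd.mpr hm)
    exact Or.inr ⟨hc.dvd_of_dvd_mul_left hdvd, hc⟩

/-- A nontrivial `p`-subgroup has prime-power order with positive exponent. -/
theorem exists_card_eq_prime_pow {G : Type*} [Group G] [Finite G] {p : ℕ} (hp : p.Prime)
    {M : Subgroup G} (hM : IsPGroup p M) (h0 : M ≠ ⊥) :
    ∃ k, 0 < k ∧ Nat.card M = p ^ k := by
  have := Fact.mk hp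
  obtain ⟨k, hk⟩ := IsPGroup.iff_card.mp hM
  refine ⟨k, Nat.pos_of_ne_zero fun h => h0 (Subgroup.card_eq_one.mp ?_), hk⟩
  rw [hk, h, pow_zero]

/-- Hall's theorem, existence. -/
theorem exists_subgroup_card_eq_of_solvable {G : Type u} [Group G] [Finite G]
    [Group.IsSolvable G] {m n : ℕ} (hG : Nat.card G = m * n) (hmn : m.Coprime n) :
    ∃ H : Subgroup G, Nat.card H = m := by
  obtain ⟨c, hc⟩ : ∃ c, Nat.card G = c := ⟨_, rfl⟩
  induction c using Nat.strongRecOn generalizing G m n with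
  | ind c ih =>
  have ih' : ∀ (G' : Type u) [Group G'] [Finite G'] [Group.IsSolvable G'] (a b : ℕ),
      Nat.card G' < c → Nat.card G' = a * b → a.Coprime b → ∃ H : Subgroup G', Nat.card H = a :=
    fun G' _ _ _ a b hlt h1 h2 => ih _ hlt h1 h2 rfl
  cases subsingleton_or_nontrivial G with
  | inl h =>
    rw [Nat.card_of_subsingleton (1 : G)] at hG
    exact ⟨⊥, by rw [Subgroup.card_bot, Nat.eq_one_of_mul_eq_one_right hG.symm]⟩
  | inr h =>
  obtain ⟨p, M, hp, hMn, hM0, hMc, hMp, -⟩ := exists_normal_isPGroup_isMulCommutative G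
  obtain ⟨k, hk, hcard⟩ := exists_card_eq_prime_pow hp hMp hM0
  have hmul := card_quotient_mul_card M
  have hlt : Nat.card (G ⧸ M) < c := by
    rw [← hc, ← hmul]
    exact lt_mul_of_one_lt_right Nat.card_pos (M.one_lt_card_iff_ne_bot.mpr hM0)
  have hd : p ^ k ∣ m * n := by rw [← hcard, ← hG]; exact ⟨_, by rw [← hmul]; ring⟩
  rcases coprime_split hp hk hd hmn with ⟨⟨m', rfl⟩, -⟩ | ⟨⟨n', rfl⟩, hcop⟩
  · obtain ⟨X, hX⟩ := ih' (G ⧸ M) m' n hlt
      (by
        apply Nat.eq_of_mul_eq_mul_right (Nat.card_pos (α := M))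
        rw [hmul, hG, hcard]; ring)
      (hmn.coprime_dvd_left (dvd_mul_left _ _))
    exact ⟨X.comap (QuotientGroup.mk' M), by rw [card_comap_mk', hX, hcard]⟩
  · obtain ⟨X, hX⟩ := ih' (G ⧸ M) m n' hlt
      (by
        apply Nat.eq_of_mul_eq_mul_right (Nat.card_pos (α := M))
        rw [hmul, hG, hcard]; ring)
      (hmn.coprime_dvd_right (dvd_mul_left _ _))
    set L := X.comap (QuotientGroup.mk' M) with hL
    have hLc : Nat.card L = Nat.card M * m := by rw [hL, card_comap_mk', hX]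
    have hML : M ≤ L := fun x hx => by
      show QuotientGroup.mk' M x ∈ X
      rw [show QuotientGroup.mk' M x = 1 from (QuotientGroup.eq_one_iff x).mpr hx]
      exact one_mem _
    have : (M.subgroupOf L).Normal := Subgroup.normal_subgroupOf
    have hcM : Nat.card (M.subgroupOf L) = Nat.card M :=
      Nat.card_congr (Subgroup.subgroupOfEquivOfLe hML).toEquiv
    have hiM : (M.subgroupOf L).index = m := by
      have := (M.subgroupOf L).card_mul_index
      rw [hcM, hLc] at this
      exact Nat.eq_of_mul_eq_mul_left Nat.card_pos this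
    obtain ⟨H', hH'⟩ := Subgroup.exists_right_complement'_of_coprime (N := M.subgroupOf L)
      (by rw [hcM, hiM, hcard]; exact hcop)
    exact ⟨H'.map L.subtype, by
      rw [Nat.card_congr (H'.equivMapOfInjective L.subtype L.subtype_injective).toEquiv.symm,
        ← hH'.symm.index_eq_card, hiM]⟩

/-- Hall's theorem, dominance. -/
theorem exists_le_conj_of_solvable {G : Type u} [Group G] [Finite G] [Group.IsSolvable G]
    {H K : Subgroup G} (hH : (Nat.card H).Coprime H.index)
    (hK : (Nat.card K).Coprime H.index) : ∃ g : G, K ≤ MulAut.conj g • H := by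
  obtain ⟨c, hc⟩ : ∃ c, Nat.card G = c := ⟨_, rfl⟩
  induction c using Nat.strongRecOn generalizing G H K with
  | ind c ih =>
  cases subsingleton_or_nontrivial G with
  | inl h => exact ⟨1, fun x _ => by rw [Subsingleton.elim x 1]; exact one_mem _⟩
  | inr h =>
  obtain ⟨p, M, hp, hMn, hM0, hMc, hMp, -⟩ := exists_normal_isPGroup_isMulCommutative G
  obtain ⟨k, hk, hcard⟩ := exists_card_eq_prime_pow hp hMp hM0
  have hlt : Nat.card (G ⧸ M) < c := by
    rw [← hc, ← card_quotient_mul_card M]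
    exact lt_mul_of_one_lt_right Nat.card_pos (M.one_lt_card_iff_ne_bot.mpr hM0)
  let π : G →* G ⧸ M := QuotientGroup.mk' M
  have hπ : Function.Surjective π := QuotientGroup.mk'_surjective M
  have hd1 : ∀ X : Subgroup G, Nat.card (X.map π) ∣ Nat.card X := fun X =>
    Subgroup.card_dvd_of_surjective (π.subgroupMap X) (π.subgroupMap_surjective X)
  have hd2 : (H.map π).index ∣ H.index := Subgroup.index_map_dvd H hπ
  obtain ⟨g', hg'⟩ := ih _ hlt (G := G ⧸ M) (H := H.map π) (K := K.map π)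
    ((hH.coprime_dvd_left (hd1 H)).coprime_dvd_right hd2)
    ((hK.coprime_dvd_left (hd1 K)).coprime_dvd_right hd2) rfl
  obtain ⟨g, rfl⟩ := hπ g'
  set H₁ := MulAut.conj g • H with hH₁
  have hKle : K ≤ M ⊔ H₁ := by
    intro x hx
    have h1 := hg' (Subgroup.mem_map_of_mem π hx)
    rw [mem_conj_smul] at h1
    obtain ⟨y, hy, hyx⟩ := h1
    have h2 : g * y * g⁻¹ ∈ H₁ := by rw [hH₁, mem_conj_smul]; simpa [mul_assoc] using hy
    have h3 : x * (g * y * g⁻¹)⁻¹ ∈ M := by
      rw [← QuotientGroup.eq_one_iff]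
      show π (x * (g * y * g⁻¹)⁻¹) = 1
      simp [map_mul, map_inv, hyx, mul_assoc]
    simpa [mul_assoc] using
      mul_mem (Subgroup.mem_sup_left h3 : _ ∈ M ⊔ H₁) (Subgroup.mem_sup_right h2)
  have hcH₁ : Nat.card H₁ = Nat.card H := card_conj_smul g H
  have hd : p ^ k ∣ Nat.card H * H.index := by
    rw [← hcard, H.card_mul_index]; exact Subgroup.card_subgroup_dvd_card M
  rcases coprime_split hp hk hd hH with ⟨-, hcop⟩ | ⟨-, hcop⟩
  · -- `M ≤ H₁`
    refine ⟨g, ?_⟩
    have hsup := card_sup_mul_card_inf (N := M) (H := H₁) Subgroup.le_normalizer_of_normal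
    have hcop' : (Nat.card (M ⊔ H₁ : Subgroup G)).Coprime H.index := by
      refine Nat.Coprime.coprime_dvd_left (hsup ▸ dvd_mul_right _ _) ?_
      rw [hcard, hcH₁]
      exact Nat.Coprime.mul_left hcop hH
    have hle : Nat.card (M ⊔ H₁ : Subgroup G) ≤ Nat.card H₁ := by
      have h1 : Nat.card (M ⊔ H₁ : Subgroup G) ∣ Nat.card H * H.index := by
        rw [H.card_mul_index]; exact Subgroup.card_subgroup_dvd_card _
      rw [hcH₁]
      exact Nat.le_of_dvd Nat.card_pos (hcop'.dvd_of_dvd_mul_right h1)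
    exact hKle.trans (eq_of_le_of_card_le le_sup_right hle).ge
  · have hcopM : (Nat.card M).Coprime (Nat.card H₁) := by rw [hcard, hcH₁]; exact hcop
    have hMi : Nat.card M ∣ H.index := by
      refine hcopM.dvd_of_dvd_mul_left ?_
      rw [hcH₁, H.card_mul_index]; exact Subgroup.card_subgroup_dvd_card M
    obtain ⟨x, _, hx⟩ := exists_le_conj_of_le_sup Subgroup.le_normalizer_of_normal hcopM
      (Or.inl (isSolvable_of_isMulCommutative M)) (hK.coprime_dvd_right hMi).symm hKle
    exact ⟨x * g, by rw [conj_mul_smul]; exact hx⟩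

/-- Hall's theorem, conjugacy. -/
theorem exists_conj_eq_of_solvable {G : Type u} [Group G] [Finite G] [Group.IsSolvable G]
    {H K : Subgroup G} (hH : (Nat.card H).Coprime H.index) (hc : Nat.card K = Nat.card H) :
    ∃ g : G, MulAut.conj g • H = K := by
  obtain ⟨g, hg⟩ := exists_le_conj_of_solvable hH (K := K) (hc.symm ▸ hH)
  exact ⟨g, (eq_of_le_of_card_le hg (by rw [card_conj_smul, hc])).symm⟩

/-- Splitting a natural number along a set of primes. -/
theorem exists_prime_set_split (π : ℕ → Prop) (n : ℕ) (hn : n ≠ 0) :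
    ∃ a b : ℕ, n = a * b ∧ a.Coprime b ∧ (∀ p, p.Prime → p ∣ a → π p) ∧
      ∀ p, p.Prime → p ∣ b → ¬ π p := by
  induction n using Nat.recOnPrimeCoprime with
  | zero => exact absurd rfl hn
  | prime_pow p k hp =>
    by_cases h : π p
    · exact ⟨p ^ k, 1, (mul_one _).symm, Nat.coprime_one_right _,
        fun q hq hd => (Nat.prime_dvd_prime_iff_eq hq hp).mp (hq.dvd_of_dvd_pow hd) ▸ h,
        fun q hq hd => absurd hd hq.not_dvd_one⟩
    · exact ⟨1, p ^ k, (one_mul _).symm, Nat.coprime_one_left _,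
        fun q hq hd => absurd hd hq.not_dvd_one,
        fun q hq hd => (Nat.prime_dvd_prime_iff_eq hq hp).mp (hq.dvd_of_dvd_pow hd) ▸ h⟩
  | coprime a b _ _ hab iha ihb =>
    obtain ⟨ha0, hb0⟩ := mul_ne_zero_iff.mp hn
    obtain ⟨a₁, a₂, rfl, _, ha₁, ha₂⟩ := iha ha0
    obtain ⟨b₁, b₂, rfl, _, hb₁, hb₂⟩ := ihb hb0
    refine ⟨a₁ * b₁, a₂ * b₂, by ring, Nat.coprime_of_dvd fun q hq h1 h2 => ?_,
      fun q hq hd => (hq.dvd_mul.mp hd).elim (ha₁ q hq) (hb₁ q hq),
      fun q hq hd => (hq.dvd_mul.mp hd).elim (ha₂ q hq) (hb₂ q hq)⟩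
    exact (hq.dvd_mul.mp h2).elim (ha₂ q hq) (hb₂ q hq)
      ((hq.dvd_mul.mp h1).elim (ha₁ q hq) (hb₁ q hq))

/-- Hall's theorem, existence for a set of primes. -/
theorem exists_hall_of_solvable {G : Type u} [Group G] [Finite G] [Group.IsSolvable G]
    (π : ℕ → Prop) :
    ∃ H : Subgroup G, (∀ p, p.Prime → p ∣ Nat.card H → π p) ∧
      ∀ p, p.Prime → p ∣ H.index → ¬ π p := by
  obtain ⟨a, b, hab, hcop, ha, hb⟩ := exists_prime_set_split π (Nat.card G) Nat.card_pos.ne'
  obtain ⟨H, hH⟩ := exists_subgroup_card_eq_of_solvable hab hcop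
  have hi : H.index = b := by
    have := H.card_mul_index
    rw [hH, hab] at this
    exact Nat.eq_of_mul_eq_mul_left (by rw [← hH]; exact Nat.card_pos) this
  exact ⟨H, hH.symm ▸ ha, hi.symm ▸ hb⟩

end Cfsg.Agent.Lib.Coprime
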