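import Mathlib.GroupTheory.Nilpotent
import Cfsg.Agent.Lib.Coprime.Action

/-!
Thompson's `P × Q` lemma and elementary facts on `p`-groups acting on `p`-groups.
-/

set_option autoImplicit false

open Pointwise
open scoped commutatorElement

namespace Cfsg.Agent.Lib.Coprime

variable {G : Type*} [Group G] [Finite G]

/-- A nilpotent subgroup containing `U` and `P` forces `[U, P] < U`. -/
theorem commutator_lt_of_isPGroup {p : ℕ} [Fact p.Prime] {U P : Subgroup G} (hU : IsPGroup p U)
    (hP : IsPGroup p P) (hPU : P ≤ Subgroup.normalizer (U : Set G)) (hU0 : U ≠ ⊥) :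
    ⁅U, P⁆ < U := by
  refine lt_of_le_of_ne (commutator_le_of_le_normalizer hPU) fun h => hU0 ?_
  have hX : IsPGroup p (U ⊔ P : Subgroup G) := hU.to_sup_of_normal_left' hP hPU
  have : Group.IsNilpotent (U ⊔ P : Subgroup G) := hX.isNilpotent
  obtain ⟨n, hn⟩ := (Subgroup.isNilpotent_iff_lowerCentralSeries _).mp this
  have key : ∀ i, U ≤ (U ⊔ P).lowerCentralSeries i := by
    intro i
    induction i with
    | zero => exact le_sup_left
    | succ i ih =>
      rw [Subgroup.lowerCentralSeries_succ]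
      conv_lhs => rw [← h]
      exact Subgroup.commutator_mono ih le_sup_right
  exact le_bot_iff.mp (hn ▸ key n)

/-- Coprime action stabilizing the series `1 ≤ [U, Q] ≤ U` is trivial. -/
theorem le_centralizer_of_commutator_commutator_eq_bot {U Q : Subgroup G}
    (hQU : Q ≤ Subgroup.normalizer (U : Set G)) (hcop : (Nat.card Q).Coprime (Nat.card U))
    (h : ⁅⁅U, Q⁆, Q⁆ = ⊥) : Q ≤ Subgroup.centralizer (U : Set G) := by
  have hle := commutator_le_of_le_normalizer hQU
  refine le_centralizer_of_stabilizes (N := ⁅U, Q⁆) (Subgroup.normalizer_commutator_ge_right U Q)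
    (Subgroup.normalizer_commutator_ge_left U Q) (hcop.coprime_dvd_right (Subgroup.card_dvd_of_le hle))
    (fun a ha k hk => ?_) (Subgroup.commutator_eq_bot_iff_le_centralizer.mp
      (Subgroup.commutator_comm Q ⁅U, Q⁆ ▸ h))
  have h1 := inv_mem (Subgroup.commutator_mem_commutator hk ha)
  simpa [commutatorElement_def, mul_assoc] using h1

omit [Finite G] in
theorem conj_smul_commutator (g : G) (X Y : Subgroup G) :
    MulAut.conj g • ⁅X, Y⁆ = ⁅MulAut.conj g • X, MulAut.conj g • Y⁆ :=
  Subgroup.map_commutator X Y (MulAut.conj g).toMonoidHom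

/-- Thompson's `P × Q` lemma. -/
theorem le_centralizer_of_PxQ {p : ℕ} [Fact p.Prime] {P Q U : Subgroup G}
    (hP : IsPGroup p P) (hQ : (Nat.card Q).Coprime p) (hU : IsPGroup p U)
    (hPQ : P ≤ Subgroup.centralizer (Q : Set G))
    (hPU : P ≤ Subgroup.normalizer (U : Set G)) (hQU : Q ≤ Subgroup.normalizer (U : Set G))
    (hC : U ⊓ Subgroup.centralizer (P : Set G) ≤ Subgroup.centralizer (Q : Set G)) :
    Q ≤ Subgroup.centralizer (U : Set G) := by
  obtain ⟨c, hc⟩ : ∃ c, Nat.card U = c := ⟨_, rfl⟩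
  induction c using Nat.strongRecOn generalizing U with
  | ind c ih =>
  by_cases hU0 : U = ⊥
  · intro q hq
    rw [Subgroup.mem_centralizer_iff, hU0]
    intro x hx
    rw [SetLike.mem_coe, Subgroup.mem_bot] at hx
    simp [hx]
  have hlt := commutator_lt_of_isPGroup hU hP hPU hU0
  have hUn : Nat.card (⁅U, P⁆ : Subgroup G) < c :=
    hc ▸ lt_of_not_ge fun h => hlt.ne (eq_of_le_of_card_le hlt.le h)
  have hQP : Q ≤ Subgroup.centralizer (P : Set G) := Subgroup.le_centralizer_iff.mp hPQ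
  have hQn : Q ≤ Subgroup.normalizer ((⁅U, P⁆ : Subgroup G) : Set G) := fun q hq =>
    mem_normalizer_of_conj_smul_eq (by
      rw [conj_smul_commutator, conj_smul_eq_of_mem_normalizer (hQU hq),
        conj_smul_eq_of_mem_normalizer (Subgroup.centralizer_le_normalizer _ (hQP hq))])
  have hQ1 := ih _ hUn (hU.to_le hlt.le) (Subgroup.normalizer_commutator_ge_right U P) hQn
    (le_trans (inf_le_inf_right _ hlt.le) hC) rfl
  have h1 : ⁅⁅U, P⁆, Q⁆ = ⊥ :=
    Subgroup.commutator_eq_bot_iff_le_centralizer.mpr (Subgroup.le_centralizer_iff.mp hQ1)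
  have h2 : ⁅⁅P, Q⁆, U⁆ = ⊥ := by
    rw [Subgroup.commutator_eq_bot_iff_le_centralizer.mpr hPQ, Subgroup.commutator_bot_left]
  have h3 : ⁅⁅U, Q⁆, P⁆ = ⊥ := by
    have := Subgroup.commutator_commutator_eq_bot_of_rotate (H₁ := Q) (H₂ := U) (H₃ := P) h1 h2
    rwa [Subgroup.commutator_comm Q U] at this
  have hUQ := commutator_le_of_le_normalizer hQU
  have h4 : ⁅U, Q⁆ ≤ Subgroup.centralizer (Q : Set G) :=
    le_trans (le_inf hUQ (Subgroup.commutator_eq_bot_iff_le_centralizer.mp h3)) hC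
  obtain ⟨n, hn⟩ := IsPGroup.iff_card.mp hU
  exact le_centralizer_of_commutator_commutator_eq_bot hQU (hn ▸ hQ.pow_right n)
    (Subgroup.commutator_eq_bot_iff_le_centralizer.mpr h4)

end Cfsg.Agent.Lib.Coprime
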