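import Mathlib.GroupTheory.SemidirectProduct
import Cfsg.Agent.Lib.Coprime.Action

/-!
Coprime action, external setting: a homomorphism `φ : A →* MulAut K`
(use `MulDistribMulAction.toMulAut A K` for actions).
-/

set_option autoImplicit false

open Pointwise SemidirectProduct

namespace Cfsg.Agent.Lib.Coprime

variable {A K : Type*} [Group A] [Group K] [Finite A] [Finite K] (φ : A →* MulAut K)

theorem finite_semidirect : Finite (K ⋊[φ] A) := Finite.of_equiv _ SemidirectProduct.equivProd.symm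

omit [Finite A] [Finite K] in
theorem inr_range_le_normalizer :
    (inr : A →* K ⋊[φ] A).range ≤ Subgroup.normalizer ((inl : K →* K ⋊[φ] A).range : Set (K ⋊[φ] A)) := by
  rw [Subgroup.le_normalizer_iff]
  rintro _ ⟨a, rfl⟩ _ ⟨k, rfl⟩
  exact ⟨φ a k, by rw [inl_aut, map_inv]⟩

omit [Finite A] [Finite K] in
theorem inr_le_normalizer_map {N : Subgroup K} (hN : ∀ a, ∀ n ∈ N, φ a n ∈ N) :
    (inr : A →* K ⋊[φ] A).range ≤
      Subgroup.normalizer ((N.map (inl : K →* K ⋊[φ] A)) : Set (K ⋊[φ] A)) := by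
  rw [Subgroup.le_normalizer_iff]
  rintro _ ⟨a, rfl⟩ _ ⟨n, hn, rfl⟩
  exact ⟨φ a n, hN a n hn, by rw [inl_aut, map_inv]⟩

omit [Finite A] [Finite K] in
theorem coprime_ranges (hcop : (Nat.card A).Coprime (Nat.card K)) :
    (Nat.card (inr : A →* K ⋊[φ] A).range).Coprime (Nat.card (inl : K →* K ⋊[φ] A).range) := by
  rwa [← Nat.card_congr (MonoidHom.ofInjective (f := (inr : A →* K ⋊[φ] A)) inr_injective).toEquiv,
    ← Nat.card_congr (MonoidHom.ofInjective (f := (inl : K →* K ⋊[φ] A)) inl_injective).toEquiv]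

omit [Finite A] [Finite K] in
theorem isSolvable_ranges (hsolv : Group.IsSolvable A ∨ Group.IsSolvable K) :
    Group.IsSolvable (inr : A →* K ⋊[φ] A).range ∨ Group.IsSolvable (inl : K →* K ⋊[φ] A).range :=
  hsolv.imp (fun h => isSolvable_of_surjective' (MonoidHom.rangeRestrict_surjective _) h)
    (fun h => isSolvable_of_surjective' (MonoidHom.rangeRestrict_surjective _) h)

omit [Finite A] [Finite K] in
theorem inl_mem_centralizer_iff (k : K) :
    inl k ∈ Subgroup.centralizer ((inr : A →* K ⋊[φ] A).range : Set (K ⋊[φ] A)) ↔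
      ∀ a, φ a k = k := by
  rw [Subgroup.mem_centralizer_iff]
  constructor
  · intro h a
    apply inl_injective (φ := φ)
    rw [inl_aut, h _ ⟨a, rfl⟩, mul_assoc, ← map_mul, mul_inv_cancel, map_one, mul_one]
  · rintro h _ ⟨a, rfl⟩
    have h1 := inl_aut (φ := φ) a k
    rw [h a] at h1
    conv_rhs => rw [h1]
    rw [mul_assoc, ← map_mul, inv_mul_cancel, map_one, mul_one]

/-- A fixed coset of an invariant subgroup contains a fixed element. -/
theorem exists_fixed_of_fixed_coset (hcop : (Nat.card A).Coprime (Nat.card K))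
    (hsolv : Group.IsSolvable A ∨ Group.IsSolvable K) {N : Subgroup K} [N.Normal]
    (hN : ∀ a, ∀ n ∈ N, φ a n ∈ N) (k : K) (hk : ∀ a, φ a k * k⁻¹ ∈ N) :
    ∃ n ∈ N, ∀ a, φ a (k * n) = k * n := by
  have := finite_semidirect φ
  obtain ⟨x, ⟨n, hn, rfl⟩, hx⟩ := exists_mem_centralizer_of_fixed_coset
    (inr_le_normalizer_map φ hN)
    ((coprime_ranges φ hcop).coprime_dvd_right
      (Subgroup.card_dvd_of_le (by rw [MonoidHom.range_eq_map]; exact Subgroup.map_mono le_top)))
    ((isSolvable_ranges φ hsolv).imp_right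
      (isSolvable_of_le (by rw [MonoidHom.range_eq_map]; exact Subgroup.map_mono le_top)))
    (k := inl k) (by
      rw [Subgroup.mem_normalizer_iff'']
      intro x
      constructor
      · rintro ⟨m, hm, rfl⟩
        exact ⟨k⁻¹ * m * k, by simpa [mul_assoc] using Subgroup.Normal.conj_mem ‹_› m hm k⁻¹,
          by simp⟩
      · rintro ⟨m, hm, hmx⟩
        refine ⟨k * m * k⁻¹, Subgroup.Normal.conj_mem ‹_› m hm k, ?_⟩
        simp [hmx, mul_assoc])
    (by
      rintro _ ⟨a, rfl⟩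
      exact ⟨φ a k * k⁻¹, hk a, by rw [map_mul, inl_aut, map_inv, map_inv]⟩)
  refine ⟨n, hn, ?_⟩
  rw [← map_mul] at hx
  exact (inl_mem_centralizer_iff φ _).mp hx

/-- `K` as a subgroup of the semidirect product. -/
noncomputable def inlEquiv : K ≃* (inl : K →* K ⋊[φ] A).range := MonoidHom.ofInjective inl_injective

omit [Finite A] [Finite K] in
theorem inlEquiv_apply (k : K) : ((inlEquiv φ k : (inl : K →* K ⋊[φ] A).range) : K ⋊[φ] A) = inl k := rfl

omit [Finite A] [Finite K] in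
theorem map_inlEquiv (P : Subgroup K) :
    (P.map (inlEquiv φ).toMonoidHom).map (inl : K →* K ⋊[φ] A).range.subtype = P.map inl := by
  rw [Subgroup.map_map]
  rfl

omit [Finite A] [Finite K] in
theorem invariant_of_le_normalizer {P : Subgroup K}
    (h : (inr : A →* K ⋊[φ] A).range ≤
      Subgroup.normalizer ((P.map (inl : K →* K ⋊[φ] A)) : Set (K ⋊[φ] A)))
    (a : A) : ∀ x ∈ P, φ a x ∈ P := by
  intro x hx
  have h1 := (Subgroup.mem_normalizer_iff.mp (h ⟨a, rfl⟩) (inl x)).mp (Subgroup.mem_map_of_mem _ hx)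
  rw [← map_inv, ← inl_aut] at h1
  exact (Subgroup.mem_map_iff_mem inl_injective).mp h1

/-- An invariant Sylow subgroup containing a given invariant `p`-subgroup. -/
theorem exists_invariant_sylow_external (hcop : (Nat.card A).Coprime (Nat.card K))
    (hsolv : Group.IsSolvable A ∨ Group.IsSolvable K) (p : ℕ) [Fact p.Prime] (U : Subgroup K)
    (hU : IsPGroup p U) (hUA : ∀ a, ∀ u ∈ U, φ a u ∈ U) :
    ∃ P : Sylow p K, U ≤ P ∧ ∀ a, ∀ x ∈ (P : Subgroup K), φ a x ∈ (P : Subgroup K) := by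
  have := finite_semidirect φ
  obtain ⟨P', hUP, hP⟩ := exists_invariant_sylow_ge (inr_range_le_normalizer φ)
    (coprime_ranges φ hcop) (isSolvable_ranges φ hsolv) p (U.map inl)
    (by rw [MonoidHom.range_eq_map]; exact Subgroup.map_mono le_top) (hU.map _)
    (inr_le_normalizer_map φ hUA)
  let P : Sylow p K := P'.comapOfInjective (inlEquiv φ).toMonoidHom (inlEquiv φ).injective
    (fun x _ => ⟨(inlEquiv φ).symm x, (inlEquiv φ).apply_symm_apply x⟩)
  have hmap : (P : Subgroup K).map (inl : K →* K ⋊[φ] A) =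
      (P' : Subgroup (inl : K →* K ⋊[φ] A).range).map (inl : K →* K ⋊[φ] A).range.subtype := by
    rw [← map_inlEquiv]
    congr 1
    exact Subgroup.map_comap_eq_self_of_surjective (inlEquiv φ).surjective _
  refine ⟨P, fun u hu => ?_, fun a => invariant_of_le_normalizer φ (hmap ▸ hP) a⟩
  have h1 := hUP (Subgroup.mem_map_of_mem _ hu)
  rw [← hmap] at h1
  exact (Subgroup.mem_map_iff_mem inl_injective).mp h1

/-- Invariant Sylow subgroups are conjugate by a fixed element. -/
theorem exists_fixed_conj_sylow (hcop : (Nat.card A).Coprime (Nat.card K))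
    (hsolv : Group.IsSolvable A ∨ Group.IsSolvable K) {p : ℕ} [Fact p.Prime] (P Q : Sylow p K)
    (hP : ∀ a, ∀ x ∈ (P : Subgroup K), φ a x ∈ (P : Subgroup K))
    (hQ : ∀ a, ∀ x ∈ (Q : Subgroup K), φ a x ∈ (Q : Subgroup K)) :
    ∃ c : K, (∀ a, φ a c = c) ∧ MulAut.conj c • P = Q := by
  have := finite_semidirect φ
  let act : MulAction (K ⋊[φ] A) (Subgroup (K ⋊[φ] A)) := conjActionSubgroup _
  obtain ⟨k, hk⟩ := MulAction.exists_smul_eq K P Q
  have hconj : ∀ c : K, ∀ X : Subgroup K,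
      MulAut.conj (inl c : K ⋊[φ] A) • X.map (inl : K →* K ⋊[φ] A) =
        (MulAut.conj c • X).map (inl : K →* K ⋊[φ] A) := by
    intro c X
    ext x
    rw [mem_conj_smul]
    constructor
    · rintro ⟨y, hy, hyx⟩
      refine ⟨c * y * c⁻¹, by rw [SetLike.mem_coe, mem_conj_smul]; simpa [mul_assoc] using hy, ?_⟩
      simp [hyx, mul_assoc]
    · rintro ⟨y, hy, rfl⟩
      rw [SetLike.mem_coe, mem_conj_smul] at hy
      exact ⟨_, hy, by simp⟩
  have hfixP : ∀ (X : Subgroup K), (∀ a, ∀ x ∈ X, φ a x ∈ X) →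
      ∀ a ∈ (inr : A →* K ⋊[φ] A).range, a • X.map (inl : K →* K ⋊[φ] A) = X.map inl :=
    fun X hX a ha => conj_smul_eq_of_mem_normalizer (inr_le_normalizer_map φ hX ha)
  obtain ⟨_, ⟨c, rfl⟩, hc, hcPQ⟩ := exists_centralizer_smul_eq (inr_range_le_normalizer φ)
    (coprime_ranges φ hcop) (isSolvable_ranges φ hsolv) _ _ (hfixP _ hP) (hfixP _ hQ)
    ⟨inl k, ⟨k, rfl⟩, by rw [← hk]; exact hconj k P⟩
  refine ⟨c, (inl_mem_centralizer_iff φ c).mp hc, Sylow.ext ?_⟩
  exact Subgroup.map_injective inl_injective ((hconj c P).symm.trans hcPQ)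

end Cfsg.Agent.Lib.Coprime
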