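import Mathlib
import Cfsg.Agent.Lib.Coprime.Action
import Cfsg.Agent.Lib.Cores.PCore
import Cfsg.Prelude.Def_Local

/-!
When does a Sylow `p`-subgroup normalize a Sylow `q`-subgroup?
-/

set_option autoImplicit false

namespace Cfsg.Agent.Lib.Coprime.SylowNormalizes

open Pointwise
open Cfsg.Agent.Lib

universe u

variable {G : Type u} [Group G] [Finite G] {p q : ℕ}

/-- A Sylow subgroup of a subgroup of index prime to `q` is a Sylow subgroup. -/
theorem exists_sylow_eq_map [hq : Fact q.Prime] (K : Subgroup G) (hK : ¬ q ∣ K.index) (S : Sylow q K) :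
    ∃ Q : Sylow q G, (Q : Subgroup G) = (S : Subgroup K).map K.subtype := by
  have hc : Nat.card ((S : Subgroup K).map K.subtype) = q ^ (Nat.card G).factorization q := by
    rw [Nat.card_congr ((S : Subgroup K).equivMapOfInjective K.subtype K.subtype_injective).toEquiv.symm,
      S.card_eq_multiplicity]
    congr 1
    conv_rhs => rw [← K.card_mul_index, Nat.factorization_mul Nat.card_pos.ne' Subgroup.index_ne_zero_of_finite]
    simp [Nat.factorization_eq_zero_of_not_dvd hK]
  exact ⟨Sylow.ofCard _ hc, by simp⟩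

theorem exists_sylow_normalizes_of_pPrime [hp : Fact p.Prime] [hq : Fact q.Prime] (P : Sylow p G)
    (K : Subgroup G) (hPK : (P : Subgroup G) ≤ Subgroup.normalizer (K : Set G))
    (hKp : ¬ p ∣ Nat.card K) (hKq : ¬ q ∣ K.index) :
    ∃ Q : Sylow q G, (P : Subgroup G) ≤ Subgroup.normalizer ((Q : Subgroup G) : Set G) := by
  have := P.isPGroup'.isNilpotent
  obtain ⟨n, hn⟩ := P.isPGroup'.exists_card_eq
  have hcop : (Nat.card (P : Subgroup G)).Coprime (Nat.card K) := by
    rw [hn]
    exact Nat.Coprime.pow_left _ (hp.out.coprime_iff_not_dvd.mpr hKp)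
  obtain ⟨S, hS⟩ := Coprime.exists_invariant_sylow hPK hcop (Or.inl inferInstance) q
  obtain ⟨Q, hQ⟩ := exists_sylow_eq_map K hKq S
  exact ⟨Q, hQ ▸ hS⟩

omit [Finite G] in
theorem exists_normal_chain_factor [Finite G] [Nontrivial G] (h : Cfsg.IsPSolvable p G) :
    ∃ N : Subgroup G, N.Normal ∧ N ≠ ⊥ ∧ ((∃ m, Nat.card N = p ^ m) ∨ (Nat.card N).Coprime p) := by
  obtain ⟨n, H, h0, h1, -, hn, hf⟩ := h
  by_contra hne
  push Not at hne
  have hall : ∀ i, H i = ⊥ := by
    intro i
    induction i using Fin.induction with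
    | zero => exact h0
    | succ i ih =>
      by_contra hi
      have := hne (H i.succ) (hn i.succ) hi
      have hfi := hf i
      rw [ih, Subgroup.relIndex_bot_left] at hfi
      rcases hfi with ⟨m, hm⟩ | hm
      · exact this.1 m hm
      · exact this.2 hm
  exact (bot_ne_top : (⊥ : Subgroup G) ≠ ⊤) ((hall _).symm.trans h1)

/-- If every `q`-element centralizes a Sylow `p`-subgroup and `N` is a normal `q'`-group, then a
`p`-subgroup normalizing `QN` can be replaced by one normalizing `Q`. -/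
theorem exists_sylow_normalizes_of_qPrime [hp : Fact p.Prime] [hq : Fact q.Prime] (P : Sylow p G) (Q : Sylow q G)
    (N : Subgroup G) [N.Normal] (hNq : ¬ q ∣ Nat.card N)
    (hP : (P : Subgroup G) ≤ Subgroup.normalizer (((Q : Subgroup G) ⊔ N : Subgroup G) : Set G))
    (h : ∀ y ∈ (Q : Subgroup G), ¬ p ∣ (Subgroup.centralizer ({y} : Set G)).index) :
    ∃ P' : Sylow p G, (P' : Subgroup G) ≤ Subgroup.normalizer ((Q : Subgroup G) : Set G) := by
  classical
  have := Q.isPGroup'.isNilpotent
  obtain ⟨n, hn⟩ := Q.isPGroup'.exists_card_eq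
  have hcop : (Nat.card (Q : Subgroup G)).Coprime (Nat.card N) := by
    rw [hn]
    exact Nat.Coprime.pow_left _ (hq.out.coprime_iff_not_dvd.mpr hNq)
  have hQN : (Q : Subgroup G) ≤ Subgroup.normalizer (N : Set G) := fun g _ => by
    rw [Subgroup.normalizer_eq_top]; trivial
  obtain ⟨S₀, hS₀⟩ := Coprime.exists_invariant_sylow hQN hcop (Or.inl inferInstance) p
  set S := (S₀ : Subgroup N).map N.subtype with hS
  -- every element of `Q` centralizes `S`
  have hcent : ∀ y ∈ (Q : Subgroup G), S ≤ Subgroup.centralizer ({y} : Set G) := by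
    intro y hy
    set C := Subgroup.centralizer ({y} : Set G) with hC
    have hrel : ¬ p ∣ (C.subgroupOf N).index := by
      have e1 := Cores.card_sup_mul_card_inf C N
      have e2 : Nat.card (C.subgroupOf N) = Nat.card ↥(C ⊓ N) := by
        rw [← Subgroup.inf_subgroupOf_right C N]
        exact Nat.card_congr (Subgroup.subgroupOfEquivOfLe inf_le_right).toEquiv
      have e3 := (C.subgroupOf N).card_mul_index
      rw [e2] at e3
      intro hd
      refine h y hy ?_
      have e4 : Nat.card ↥(C ⊔ N) = Nat.card C * (C.subgroupOf N).index := by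
        apply Nat.eq_of_mul_eq_mul_right (Nat.card_pos (α := ↥(C ⊓ N)))
        rw [e1, ← e3]
        ring
      have e5 : Nat.card C * (C.subgroupOf N).index ∣ Nat.card C * C.index := by
        rw [← e4, C.card_mul_index]
        exact Subgroup.card_subgroup_dvd_card _
      exact hd.trans (Nat.dvd_of_mul_dvd_mul_left Nat.card_pos e5)
    obtain ⟨T⟩ : Nonempty (Sylow p ↥(C.subgroupOf N)) := inferInstance
    obtain ⟨S', hS'⟩ := exists_sylow_eq_map (G := N) (C.subgroupOf N) hrel T
    have hS'C : (S' : Subgroup N).map N.subtype ≤ C := by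
      rintro _ ⟨x, hx, rfl⟩
      rw [SetLike.mem_coe, hS'] at hx
      obtain ⟨z, -, rfl⟩ := hx
      exact z.2
    have hle : Subgroup.zpowers y ≤ (Q : Subgroup G) := Subgroup.zpowers_le.mpr hy
    have hZS' : Subgroup.zpowers y ≤ Subgroup.normalizer (((S' : Subgroup N).map N.subtype : Subgroup G) : Set G) := by
      rw [Subgroup.zpowers_le]
      refine Subgroup.centralizer_le_normalizer _ ?_
      rw [Subgroup.mem_centralizer_iff]
      intro x hx
      exact Subgroup.mem_centralizer_singleton_iff.mp (hS'C hx)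
    obtain ⟨c, hc, hcS⟩ := Coprime.exists_centralizer_conj_sylow (hle.trans hQN)
      (hcop.coprime_dvd_left (Subgroup.card_dvd_of_le hle)) (Or.inl inferInstance) S' S₀ hZS'
      (hle.trans hS₀)
    have hcC : (c : G) ∈ C := Subgroup.mem_centralizer_singleton_iff.mpr
      (Subgroup.mem_centralizer_iff.mp hc y (Subgroup.mem_zpowers y)).symm
    rw [hS, ← hcS, Coprime.sylow_map_conj_smul]
    intro x hx
    rw [Coprime.mem_conj_smul] at hx
    simpa [mul_assoc] using mul_mem (mul_mem hcC (hS'C hx)) (inv_mem hcC)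
  have hSH : S ≤ Subgroup.normalizer ((Q : Subgroup G) : Set G) := by
    intro x hx
    refine Subgroup.centralizer_le_normalizer _ ?_
    rw [Subgroup.mem_centralizer_iff]
    intro y hy
    exact (Subgroup.mem_centralizer_singleton_iff.mp (hcent y hy hx)).symm
  set K := (Q : Subgroup G) ⊔ N with hK
  set M := K ⊔ (P : Subgroup G) with hM
  set A := Subgroup.normalizer ((Q : Subgroup G) : Set G) ⊓ M with hA
  have hNM : N ≤ M := le_sup_right.trans le_sup_left
  have hMK : M ≤ Subgroup.normalizer (K : Set G) := sup_le Subgroup.le_normalizer hP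
  have hQA : (Q : Subgroup G) ≤ A := le_inf Subgroup.le_normalizer (le_sup_left.trans le_sup_left)
  have hAN : A ⊔ N = M := by
    refine le_antisymm (sup_le inf_le_right hNM) fun m hm => ?_
    have h1 : ((m • Q : Sylow q G) : Subgroup G) ≤ K := by
      intro x hx
      rw [Sylow.coe_subgroup_smul, Coprime.mem_conj_smul] at hx
      have hx' : m⁻¹ * x * m ∈ K := Subgroup.mem_sup_left hx
      exact (Subgroup.mem_normalizer_iff''.mp (hMK hm) x).mpr hx'
    obtain ⟨k, hk⟩ := MulAction.exists_smul_eq K (Q.subtype (le_sup_left : (Q : Subgroup G) ≤ K))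
      ((m • Q).subtype h1)
    rw [Sylow.smul_subtype] at hk
    have hk' := Sylow.subtype_injective hk
    have h2 : ((k : G)⁻¹ * m) • Q = Q := by
      have hk'' : (k : G) • Q = m • Q := hk'
      rw [mul_smul, ← hk'', inv_smul_smul]
    have h3 : (k : G)⁻¹ * m ∈ A :=
      ⟨Sylow.smul_eq_iff_mem_normalizer.mp h2,
        Subgroup.mul_mem _ (Subgroup.inv_mem _ ((le_sup_left : K ≤ M) k.2)) hm⟩
    have h4 : (k : G) ∈ A ⊔ N := (sup_le_sup_right hQA N : K ≤ A ⊔ N) k.2
    simpa using mul_mem h4 (Subgroup.mem_sup_left h3 : (k : G)⁻¹ * m ∈ A ⊔ N)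
  have hcard := Cores.card_sup_mul_card_inf A N
  rw [hAN] at hcard
  obtain ⟨a, ha⟩ := P.isPGroup'.exists_card_eq
  have hPd : p ^ a ∣ Nat.card A := by
    have hSA : S ≤ A ⊓ N := by
      have hSN : S ≤ N := Subgroup.map_subtype_le _
      exact le_inf (le_inf hSH (hSN.trans hNM)) hSN
    have hSc : Nat.card S = Nat.card (S₀ : Subgroup N) :=
      Nat.card_congr ((S₀ : Subgroup N).equivMapOfInjective N.subtype N.subtype_injective).toEquiv.symm
    obtain ⟨t, ht⟩ := Subgroup.card_dvd_of_le hSA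
    have hNc := (S₀ : Subgroup N).card_mul_index
    rw [ht, hSc, ← hNc] at hcard
    have e : Nat.card ↥M * t = Nat.card A * (S₀ : Subgroup N).index := by
      apply Nat.eq_of_mul_eq_mul_left (Nat.card_pos (α := (S₀ : Subgroup N)))
      calc _ = Nat.card ↥M * (Nat.card (S₀ : Subgroup N) * t) := by ring
        _ = _ := hcard
        _ = _ := by ring
    have h1 : p ^ a ∣ Nat.card A * (S₀ : Subgroup N).index := by
      rw [← e, ← ha]
      exact (Subgroup.card_dvd_of_le (le_sup_right : (P : Subgroup G) ≤ M)).mul_right t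
    exact (Nat.Coprime.pow_left a (hp.out.coprime_iff_not_dvd.mpr S₀.not_dvd_index)).dvd_of_dvd_mul_right h1
  obtain ⟨R, hR⟩ := Sylow.exists_subgroup_card_pow_prime (G := A) p hPd
  have hc : Nat.card (R.map A.subtype) = p ^ (Nat.card G).factorization p := by
    rw [Nat.card_congr (R.equivMapOfInjective A.subtype A.subtype_injective).toEquiv.symm, hR, ← ha,
      P.card_eq_multiplicity]
  refine ⟨Sylow.ofCard _ hc, ?_⟩
  simp only [Sylow.coe_ofCard]
  exact (Subgroup.map_subtype_le R).trans inf_le_left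

theorem centralizer_index_quotient [hq : Fact q.Prime] (N : Subgroup G) [N.Normal]
    (h : ∀ y : G, (∃ k : ℕ, orderOf y = q ^ k) → ¬ p ∣ (Subgroup.centralizer ({y} : Set G)).index)
    (x : G ⧸ N) (hx : ∃ k : ℕ, orderOf x = q ^ k) :
    ¬ p ∣ (Subgroup.centralizer ({x} : Set (G ⧸ N))).index := by
  obtain ⟨k, hk⟩ := hx
  obtain ⟨g, rfl⟩ := QuotientGroup.mk'_surjective N x
  set π := QuotientGroup.mk' N
  have hd : orderOf (π g) ∣ orderOf g := orderOf_map_dvd π g
  obtain ⟨Qg⟩ : Nonempty (Sylow q ↥(Subgroup.zpowers g)) := inferInstance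
  have hpg : IsPGroup q (Subgroup.zpowers (π g)) := by
    refine IsPGroup.of_card (n := k) ?_
    rw [Nat.card_zpowers, hk]
  have hmap : (Subgroup.zpowers g).map π = Subgroup.zpowers (π g) := MonoidHom.map_zpowers π g
  set e := (π.comp (Subgroup.zpowers g).subtype).rangeRestrict with he
  have hr : (π.comp (Subgroup.zpowers g).subtype).range = Subgroup.zpowers (π g) := by
    rw [MonoidHom.range_comp, Subgroup.range_subtype, hmap]
  have hsurj : Function.Surjective e := MonoidHom.rangeRestrict_surjective _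
  have hr' : IsPGroup q (π.comp (Subgroup.zpowers g).subtype).range := hr ▸ hpg
  let T := Qg.mapSurjective hsurj
  have hT : (T : Subgroup ↥(π.comp (Subgroup.zpowers g).subtype).range) = ⊤ := by
    exact (T.is_maximal' (hr'.to_subgroup ⊤) le_top).symm
  have hmem : (⟨π g, hr ▸ Subgroup.mem_zpowers _⟩ : (π.comp (Subgroup.zpowers g).subtype).range) ∈
      (T : Subgroup ↥(π.comp (Subgroup.zpowers g).subtype).range) := hT ▸ Subgroup.mem_top _
  rw [Sylow.coe_mapSurjective] at hmem
  obtain ⟨z, hz, hze⟩ := hmem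
  have hze' : π (z : G) = π g := congrArg Subtype.val hze
  obtain ⟨j, hj⟩ := Qg.isPGroup' ⟨z, hz⟩
  have hzo : ∃ k : ℕ, orderOf (z : G) = q ^ k := by
    have h2 : (z : G) ^ q ^ j = 1 := by
      simpa using congrArg (fun w => ((w : ↥(Subgroup.zpowers g)) : G)) (congrArg Subtype.val hj)
    obtain ⟨i, -, hi⟩ := (Nat.dvd_prime_pow hq.out).mp (orderOf_dvd_of_pow_eq_one h2)
    exact ⟨i, hi⟩
  intro hdvd
  refine h z hzo (hdvd.trans ?_)
  refine dvd_trans (Subgroup.index_dvd_of_le ?_) (Subgroup.index_map_dvd _ (QuotientGroup.mk'_surjective N))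
  rintro _ ⟨w, hw, rfl⟩
  rw [Subgroup.mem_centralizer_singleton_iff]
  have := Subgroup.mem_centralizer_singleton_iff.mp hw
  rw [← hze', ← map_mul, ← map_mul, this]

/-- The main induction. -/
theorem exists_normalizes (p q : ℕ) [hp : Fact p.Prime] [hq : Fact q.Prime] :
    ∀ (n : ℕ) (G : Type u) [Group G] [Finite G], Nat.card G = n →
      (Cfsg.IsPSolvable p G ∨ Cfsg.IsPSolvable q G) →
      (∀ (N : Subgroup G) [N.Normal], (Cfsg.IsPSolvable p G → Cfsg.IsPSolvable p (G ⧸ N)) ∧
        (Cfsg.IsPSolvable q G → Cfsg.IsPSolvable q (G ⧸ N))) →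
      (∀ (H : Type u) [Group H] [Finite H] (N : Subgroup H) [N.Normal],
        (Cfsg.IsPSolvable p H → Cfsg.IsPSolvable p (H ⧸ N)) ∧
        (Cfsg.IsPSolvable q H → Cfsg.IsPSolvable q (H ⧸ N))) →
      (∀ y : G, (∃ k : ℕ, orderOf y = q ^ k) → ¬ p ∣ (Subgroup.centralizer ({y} : Set G)).index) →
      ∃ (P : Sylow p G) (Q : Sylow q G),
        (P : Subgroup G) ≤ Subgroup.normalizer ((Q : Subgroup G) : Set G) := by
  intro n
  induction n using Nat.strong_induction_on with
  | _ n ih =>
  intro G _ _ hn hsolv hquot hquot' h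
  by_cases hpq : p = q
  · subst hpq
    obtain ⟨P⟩ : Nonempty (Sylow p G) := inferInstance
    exact ⟨P, P, Subgroup.le_normalizer⟩
  rcases subsingleton_or_nontrivial G with hG | hG
  · obtain ⟨P⟩ : Nonempty (Sylow p G) := inferInstance
    obtain ⟨Q⟩ : Nonempty (Sylow q G) := inferInstance
    exact ⟨P, Q, fun x _ => by rw [Subsingleton.elim x 1]; exact one_mem _⟩
  obtain ⟨N, hN, hN1, hN2⟩ : ∃ N : Subgroup G, N.Normal ∧ N ≠ ⊥ ∧
      (¬ p ∣ Nat.card N ∨ ¬ q ∣ Nat.card N) := by
    rcases hsolv with hs | hs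
    · obtain ⟨N, a, b, ⟨m, hm⟩ | c⟩ := exists_normal_chain_factor hs
      · refine ⟨N, a, b, Or.inr fun hd => ?_⟩
        rw [hm] at hd
        exact hpq ((Nat.prime_dvd_prime_iff_eq hq.out hp.out).mp (hq.out.dvd_of_dvd_pow hd)).symm
      · exact ⟨N, a, b, Or.inl (hp.out.coprime_iff_not_dvd.mp c.symm)⟩
    · obtain ⟨N, a, b, ⟨m, hm⟩ | c⟩ := exists_normal_chain_factor hs
      · refine ⟨N, a, b, Or.inl fun hd => ?_⟩
        rw [hm] at hd
        exact hpq ((Nat.prime_dvd_prime_iff_eq hp.out hq.out).mp (hp.out.dvd_of_dvd_pow hd))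
      · exact ⟨N, a, b, Or.inr (hq.out.coprime_iff_not_dvd.mp c.symm)⟩
  have := hN
  set π := QuotientGroup.mk' N
  have hπ : Function.Surjective π := QuotientGroup.mk'_surjective N
  have hlt : Nat.card (G ⧸ N) < n := by
    rw [← hn, Subgroup.card_eq_card_quotient_mul_card_subgroup N]
    exact lt_mul_of_one_lt_right Nat.card_pos (N.one_lt_card_iff_ne_bot.mpr hN1)
  obtain ⟨Pb, Qb, hb⟩ := ih _ hlt (G ⧸ N) rfl
    (hsolv.imp (hquot N).1 (hquot N).2) (fun M _ => hquot' (G ⧸ N) M) hquot'
    (centralizer_index_quotient N h)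
  obtain ⟨P, rfl⟩ := Sylow.mapSurjective_surjective hπ p Pb
  obtain ⟨Q, rfl⟩ := Sylow.mapSurjective_surjective hπ q Qb
  rw [Sylow.coe_mapSurjective, Sylow.coe_mapSurjective] at hb
  have hPK : (P : Subgroup G) ≤ Subgroup.normalizer (((Q : Subgroup G) ⊔ N : Subgroup G) : Set G) := by
    intro x hx
    have h1 := hb (Subgroup.mem_map_of_mem π hx)
    have h2 : x ∈ Subgroup.normalizer ((((Q : Subgroup G).map π).comap π : Subgroup G) : Set G) := by
      rw [← Subgroup.comap_normalizer_eq_of_surjective _ hπ]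
      exact h1
    rwa [Subgroup.comap_map_eq, QuotientGroup.ker_mk'] at h2
  rcases hN2 with hNp | hNq
  · obtain ⟨Q', hQ'⟩ := exists_sylow_normalizes_of_pPrime (q := q) P _ hPK
      (fun hd => by
        rcases Cores.prime_dvd_card_sup hp.out hd with hd | hd
        · obtain ⟨m, hm⟩ := Q.isPGroup'.exists_card_eq
          rw [hm] at hd
          exact hpq ((Nat.prime_dvd_prime_iff_eq hp.out hq.out).mp (hp.out.dvd_of_dvd_pow hd))
        · exact hNp hd)
      (fun hd => Q.not_dvd_index (hd.trans (Subgroup.index_dvd_of_le le_sup_left)))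
    exact ⟨P, Q', hQ'⟩
  · obtain ⟨P', hP'⟩ := exists_sylow_normalizes_of_qPrime P Q N hNq hPK
      (fun y hy => h y (by
        obtain ⟨j, hj⟩ := Q.isPGroup' ⟨y, hy⟩
        have h2 : y ^ q ^ j = 1 := by simpa using congrArg Subtype.val hj
        obtain ⟨i, -, hi⟩ := (Nat.dvd_prime_pow hq.out).mp (orderOf_dvd_of_pow_eq_one h2)
        exact ⟨i, hi⟩))
    exact ⟨P', Q, hP'⟩

end Cfsg.Agent.Lib.Coprime.SylowNormalizes
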